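import Cfsg.Agent.Lib.H16.U62M.StemC
import Cfsg.Agent.Lib.H24.U62Hom

set_option autoImplicit false

/-!
# Interfaces of the pieces of the Schur multiplier of `U6(2)` (helper16)

`Model1`, `Model2`: the two monomial models of the cover; `P2Bound`: the conclusion of the second
certificate of stage 1 (`GlueP2.mono_mainP2`) as a hypothesis, so that the lower bound does not import it.
-/

namespace Cfsg.Agent.Lib.H16.U62M

open Cfsg.Agent.Lib.H12.J3M (gl3 wv3)

/-- a model of the presented cover in which `X` has order 6 and `W` is trivial -/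
def Model1 : Prop :=
  ∃ (M : Type) (_ : Group M) (x y z : M),
    (∀ w ∈ PE, wv3 x y z w = 1) ∧
    (∀ w ∈ ZL, Commute (wv3 x y z w) x ∧ Commute (wv3 x y z w) y ∧ Commute (wv3 x y z w) z) ∧
    (∀ i < 6, ((wv3 x y z x0W)⁻¹ * (wv3 x y z x8W)⁻¹) ^ i = 1 → i = 0) ∧
    wv3 x y z w10W = 1

/-- a model of the presented cover in which `X` is trivial and `W` is not -/
def Model2 : Prop :=
  ∃ (M : Type) (_ : Group M) (x y z : M),
    (∀ w ∈ PE, wv3 x y z w = 1) ∧
    (∀ w ∈ ZL, Commute (wv3 x y z w) x ∧ Commute (wv3 x y z w) y ∧ Commute (wv3 x y z w) z) ∧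
    (wv3 x y z x0W)⁻¹ * (wv3 x y z x8W)⁻¹ = 1 ∧
    wv3 x y z w10W ≠ 1

/-- the conclusion of the second certificate of stage 1 -/
def P2Bound : Prop :=
  ∀ (K : Type) [Group K] (ga gt gb : K), SettingP2 ga gt gb →
    Finite (K ⧸ Subgroup.closure ({ga, gt} : Set K)) ∧
      Nat.card (K ⧸ Subgroup.closure ({ga, gt} : Set K)) ≤ 248832

/-- a finite stem extension with kernel `3 × 2 × 2` -/
def CoverExists (G : Type) [Group G] : Prop :=
  ∃ (Γ : Type) (_ : Group Γ) (_ : Finite Γ) (σ : Γ →* G),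
    Cfsg.IsStemExtension σ ∧ Nonempty (σ.ker ≃* Cfsg.Agent.Lib.H24.U62Hom.T322)

end Cfsg.Agent.Lib.H16.U62M
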