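import Cfsg.Agent.Lib.H16.U62M.P1.Lists
import Cfsg.Agent.Lib.H16.U62M.P2.Lists
import Cfsg.Agent.Lib.H16.U62M.C2.Lists
import Cfsg.Agent.Lib.H12.J3M.GlueBase

set_option autoImplicit false
set_option maxRecDepth 100000

/-!
# The data on a group isomorphic to `U6(2)` used for its Schur multiplier (helper16)

`Base am bm cm`: three elements of order 11 of a group `G` of order `9196830720` such that `am bm cm` satisfy
the relators of the stage 2 certificate (`U6(2)` over `U5(2) = ⟨a, b⟩`), `am tm bm` with `tm = tW(am, bm)` of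
order 5 satisfy the relators of the stage 1 certificates (`U5(2)` over `⟨a, t⟩ = 11:5`), two more relators
(`xL`) make `bm ^ 4` and `cm` conjugates of `am`, and the word `dW` has order 7.

Letters: `0 1 2 3 4 5 = a a⁻¹ b b⁻¹ c c⁻¹` (stage 2) and `= a a⁻¹ t t⁻¹ b b⁻¹` (stage 1).
-/

namespace Cfsg.Agent.Lib.H16.U62M

open Cfsg.Agent.Lib.H12.J3M (gl3 wv3)

/-- a word `t` in `a b` of order 5 with `t a t⁻¹ = a ^ 3` -/
def tW : List ℕ := [2, 0, 0, 3, 1, 1, 1, 2, 0, 3, 0, 3, 3, 3]

/-- a word `h` in `a b` with `h⁻¹ a h = b ^ 4` -/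
def hW : List ℕ := [2, 0, 0, 0, 3, 1, 2, 0, 2, 1, 2, 0, 2, 1]

/-- a word `u` in `a b c` with `u⁻¹ a u = c` -/
def uW : List ℕ := [4, 4, 2, 4, 3, 5, 0, 3, 4, 1, 1]

/-- the word of an element of order 7 -/
def dW : List ℕ := [0, 0, 5]

/-- the inverse letter -/
def flip3 (x : ℕ) : ℕ :=
  match x with
  | 0 => 1 | 1 => 0 | 2 => 3 | 3 => 2 | 4 => 5 | 5 => 4 | k => k

/-- the inverse word -/
def invW3 (w : List ℕ) : List ℕ := (w.map flip3).reverse

/-- the relator `h⁻¹ a h b⁻⁴` -/
def xbW : List ℕ := invW3 hW ++ ([0] ++ (hW ++ [3, 3, 3, 3]))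

/-- the relator `u⁻¹ a u c⁻¹` -/
def xcW : List ℕ := invW3 uW ++ ([0] ++ (uW ++ [5]))

/-- the two additional exact relators -/
def xL : List (List ℕ) := [xbW, xcW]

/-- the word in `a b c` of a letter of the stage 1 alphabet `a a⁻¹ t t⁻¹ b b⁻¹` -/
def sub1 (x : ℕ) : List ℕ :=
  match x with
  | 0 => [0] | 1 => [1] | 2 => tW | 3 => invW3 tW | 4 => [2] | 5 => [3] | _ => []

/-- the word in `a b c` of a word of the stage 1 alphabet -/
def subW (w : List ℕ) : List ℕ := w.flatMap sub1

/-- the relators of stage 1 (in the alphabet `a a⁻¹ t t⁻¹ b b⁻¹`) -/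
def s1L : List (List ℕ) := P1.exactL ++ (P1.symL ++ P1.cenL)

/-- the sixth powers of the symbol relators of stage 2 -/
def p6L : List (List ℕ) := C2.symL.map fun w => w ++ (w ++ (w ++ (w ++ (w ++ w))))

/-- all the relators of the group -/
def RL : List (List ℕ) := C2.exactL ++ ((C2.symL ++ C2.cenL) ++ (s1L.map subW ++ xL))

/-- the exact relators of the presentation of the cover -/
def PE : List (List ℕ) := C2.exactL ++ (s1L.map subW ++ (xL ++ p6L))

/-- the central relators of the presentation of the cover -/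
def ZL : List (List ℕ) := C2.symL ++ C2.cenL

section

variable {Γ : Type*} [Group Γ] (x y z : Γ)

theorem gl3_flip3 (i : ℕ) : gl3 x y z (flip3 i) = (gl3 x y z i)⁻¹ := by
  rcases i with _ | _ | _ | _ | _ | _ | n
  · rfl
  · exact (inv_inv x).symm
  · rfl
  · exact (inv_inv y).symm
  · rfl
  · exact (inv_inv z).symm
  · have h1 : flip3 (n + 6) = n + 6 := rfl
    have h2 : gl3 x y z (n + 6) = 1 := rfl
    rw [h1, h2, inv_one]

theorem wv3_append (u v : List ℕ) : wv3 x y z (u ++ v) = wv3 x y z u * wv3 x y z v := by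
  unfold wv3
  rw [List.map_append, List.prod_append]

theorem wv3_nil : wv3 x y z [] = 1 := rfl

theorem wv3_cons (i : ℕ) (w : List ℕ) : wv3 x y z (i :: w) = gl3 x y z i * wv3 x y z w := by
  unfold wv3
  rw [List.map_cons, List.prod_cons]

theorem wv3_invW3 (w : List ℕ) : wv3 x y z (invW3 w) = (wv3 x y z w)⁻¹ := by
  induction w with
  | nil => simp [invW3, wv3]
  | cons i w ih =>
    have e : invW3 (i :: w) = invW3 w ++ [flip3 i] := by
      unfold invW3
      rw [List.map_cons, List.reverse_cons]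
    rw [e, wv3_append, ih, wv3_cons, wv3_cons, wv3_nil, mul_one, gl3_flip3, mul_inv_rev]

theorem wv3_replicate0 (n : ℕ) : wv3 x y z (List.replicate n 0) = x ^ n := by
  unfold wv3
  rw [List.map_replicate, List.prod_replicate]
  rfl

theorem wv3_replicate2 (n : ℕ) : wv3 x y z (List.replicate n 2) = y ^ n := by
  unfold wv3
  rw [List.map_replicate, List.prod_replicate]
  rfl

theorem wv3_replicate3 (n : ℕ) : wv3 x y z (List.replicate n 3) = (y ^ n)⁻¹ := by
  unfold wv3
  rw [List.map_replicate, List.prod_replicate, ← inv_pow]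
  rfl

theorem wv3_replicate4 (n : ℕ) : wv3 x y z (List.replicate n 4) = z ^ n := by
  unfold wv3
  rw [List.map_replicate, List.prod_replicate]
  rfl

/-- substitution of `t = tW(a, b)` -/
theorem wv3_subW (w : List ℕ) : wv3 x y z (subW w) = wv3 x (wv3 x y z tW) y w := by
  induction w with
  | nil => rfl
  | cons i w ih =>
    have e : subW (i :: w) = sub1 i ++ subW w := by
      unfold subW
      rw [List.flatMap_cons]
    rw [e, wv3_append, ih, wv3_cons]
    congr 1
    rcases i with _ | _ | _ | _ | _ | _ | n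
    · simp [sub1, wv3, gl3]
    · simp [sub1, wv3, gl3]
    · rfl
    · change wv3 x y z (invW3 tW) = (wv3 x y z tW)⁻¹
      exact wv3_invW3 x y z tW
    · simp [sub1, wv3, gl3]
    · simp [sub1, wv3, gl3]
    · rfl

/-- the relator `xbW` says `h⁻¹ a h = b ^ 4` -/
theorem xbW_iff : wv3 x y z xbW = 1 ↔ (wv3 x y z hW)⁻¹ * x * wv3 x y z hW = y ^ 4 := by
  have h0 : wv3 x y z [0] = x := by simp [wv3, gl3]
  have e : wv3 x y z xbW = ((wv3 x y z hW)⁻¹ * x * wv3 x y z hW) * (y ^ 4)⁻¹ := by
    unfold xbW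
    rw [wv3_append, wv3_append, wv3_append, wv3_invW3, h0,
      show ([3, 3, 3, 3] : List ℕ) = List.replicate 4 3 from rfl, wv3_replicate3]
    group
  rw [e, mul_inv_eq_one]

/-- the relator `xcW` says `u⁻¹ a u = c` -/
theorem xcW_iff : wv3 x y z xcW = 1 ↔ (wv3 x y z uW)⁻¹ * x * wv3 x y z uW = z := by
  have h0 : wv3 x y z [0] = x := by simp [wv3, gl3]
  have h5 : wv3 x y z [5] = z⁻¹ := by simp [wv3, gl3]
  have e : wv3 x y z xcW = ((wv3 x y z uW)⁻¹ * x * wv3 x y z uW) * z⁻¹ := by
    unfold xcW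
    rw [wv3_append, wv3_append, wv3_append, wv3_invW3, h0, h5]; group
  rw [e, mul_inv_eq_one]

end

/-- the data on the group `G` -/
structure Base {G : Type*} [Group G] (am bm cm : G) : Prop where
  rel : ∀ w ∈ RL, wv3 am bm cm w = 1
  gen : Subgroup.closure {am, bm, cm} = ⊤
  card : Nat.card G = 9196830720
  a_ne : am ≠ 1
  t_ne : wv3 am bm cm tW ≠ 1
  d7 : (wv3 am bm cm dW) ^ 7 = 1
  d_ne : wv3 am bm cm dW ≠ 1

section

variable {G : Type*} [Group G] {am bm cm : G}

theorem Base.rel2 (B : Base am bm cm) : ∀ w ∈ C2.exactL ++ (C2.symL ++ C2.cenL), wv3 am bm cm w = 1 := by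
  intro w hw
  apply B.rel
  unfold RL
  rcases List.mem_append.mp hw with h | h
  · exact List.mem_append_left _ h
  · exact List.mem_append_right _ (List.mem_append_left _ h)

theorem Base.rel1 (B : Base am bm cm) : ∀ w ∈ s1L, wv3 am (wv3 am bm cm tW) bm w = 1 := by
  intro w hw
  rw [← wv3_subW]
  apply B.rel
  unfold RL
  exact List.mem_append_right _ (List.mem_append_right _ (List.mem_append_left _
    (List.mem_map_of_mem hw)))

theorem Base.relx (B : Base am bm cm) : ∀ w ∈ xL, wv3 am bm cm w = 1 := by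
  intro w hw
  apply B.rel
  unfold RL
  exact List.mem_append_right _ (List.mem_append_right _ (List.mem_append_right _ hw))

end

/-- the hypotheses of the second certificate of stage 1 (`Lib/H16/U62M/GlueP2.lean`): the words of
`P2.exactL` are trivial for `ga gt gb`, which generate -/
structure SettingP2 {Γ : Type*} [Group Γ] (ga gt gb : Γ) : Prop where
  exact : ∀ w ∈ P2.exactL, wv3 ga gt gb w = 1
  gen : Subgroup.closure {ga, gt, gb} = ⊤

/-- the exact relators of the second certificate of stage 1 are relators of the first -/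
theorem p2_sub : ∀ w ∈ P2.exactL, w ∈ s1L := by
  decide +kernel

end Cfsg.Agent.Lib.H16.U62M
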