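import Cfsg.Agent.Lib.H16.G24M.Glue1
import Cfsg.Agent.Lib.H16.U62M.C2.Run
import Cfsg.Agent.Lib.H16.U62M.C2.Lists
import Cfsg.Agent.Lib.H16.U62M.C2.Alg

set_option autoImplicit false
set_option maxRecDepth 100000
set_option maxHeartbeats 4000000

/-!
# Stage 2: the monomial certificate of `U6(2) = ⟨a, b, c⟩` over `U5(2) = ⟨a, b⟩` (helper16; generated by
`tools/u62_h16/gen_c2_glue.py`)

`SettingC2 ga gb gc A`: the exact relators hold for `ga gb gc`, all other relators have values in the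
central subgroup `A`, which meets `⟨ga, gb⟩` trivially, the symbol relators have order dividing `23887872`,
and `ga gb gc` generate.  Conclusion: with `X` the product of the inverses of the values of the symbol
relators 0 and 8 and `W` the inverse of the value of the symbol relator 10: `X ^ 6 = W ^ 2 = 1` and every
coset of `⟨ga, gb⟩` is `z • c i` with `z ∈ ⟨X, W⟩` and `i < 672`.
-/

namespace Cfsg.Agent.Lib.H16.U62M

open Cfsg.Agent.Lib.H17.CosetCert (WT act)
open Cfsg.Agent.Lib.H17.MonoCert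
open Cfsg.Agent.Lib.H16.G24M (nadd neq ntw ntw_ok ntw_replicate_zero nsum ofMul_ntw nsum_eq_zero
  zsmul_ofMul_eq_zero ntw_mem_closure)
open Cfsg.Agent.Lib.H12.J3M (gl3 wv3 act_inv commGroupOfCentral smulComm_of_central free_of_disj)

/-- the word of the symbol relator 0 (its value has order dividing 3) -/
def x0W : List ℕ := [0, 4, 0, 4]

/-- the word of the symbol relator 8 (its value has order dividing 2) -/
def x8W : List ℕ := [4, 2, 0, 3, 3, 0, 0, 0, 3, 1, 2, 5, 3, 3, 0, 0, 0, 2, 0, 3, 0, 2]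

/-- the word of the symbol relator 10 (its value has order dividing 2) -/
def w10W : List ℕ := [0, 2, 0, 3, 3, 5, 0, 3, 5, 2, 1, 3, 5, 2, 5, 2, 5, 2]

section

variable {Γ : Type*} [Group Γ] (ga gb gc : Γ)

/-- the hypotheses on the group -/
structure SettingC2 (A : Subgroup Γ) : Prop where
  central : A ≤ Subgroup.center Γ
  disj : ∀ x ∈ Subgroup.closure {ga, gb}, x ∈ A → x = 1
  exact : ∀ w ∈ C2.exactL, wv3 ga gb gc w = 1
  rel : ∀ w ∈ C2.symL ++ C2.cenL, wv3 ga gb gc w ∈ A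
  gen : Subgroup.closure {ga, gb, gc} = ⊤
  tors : ∀ w ∈ C2.symL, (wv3 ga gb gc w) ^ 23887872 = 1

theorem wv3_pairC2 : ∀ w ∈ C2.pairL, wv3 ga gb gc w = 1 := by
  intro w hw
  simp only [C2.pairL, List.mem_cons, List.not_mem_nil, or_false] at hw
  rcases hw with rfl | rfl | rfl | rfl | rfl | rfl <;> simp [wv3, gl3]

variable {ga gb gc}

theorem SettingC2.rel_all {A : Subgroup Γ} (S : SettingC2 ga gb gc A) :
    ∀ w ∈ C2.relL, wv3 ga gb gc w ∈ A := by
  intro w hw
  rcases C2.rel_cases w hw with h | h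
  · rcases List.mem_append.mp h with h1 | h1
    · rw [S.exact w h1]; exact one_mem _
    · rw [wv3_pairC2 ga gb gc w h1]; exact one_mem _
  · exact S.rel w h

end

section main

variable {Γ : Type*} [Group Γ] {ga gb gc : Γ} {A : Subgroup Γ}

open Classical in
/-- the inverse of the value of a word, as an element of `A` (`1` if the value is not in `A`) -/
noncomputable def ρC2 (ga gb gc : Γ) (A : Subgroup Γ) (w : List ℕ) : A :=
  if h : wv3 ga gb gc w ∈ A then ⟨(wv3 ga gb gc w)⁻¹, A.inv_mem h⟩ else 1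

theorem ρC2_coe (w : List ℕ) (h : wv3 ga gb gc w ∈ A) :
    ((ρC2 ga gb gc A w : A) : Γ) = (wv3 ga gb gc w)⁻¹ := by
  unfold ρC2
  rw [dif_pos h]

theorem gens_topC2 (S : SettingC2 ga gb gc A) :
    Subgroup.closure {g : Γ | ∃ x < 6, g = (gl3 ga gb gc x)⁻¹} = ⊤ := by
  rw [eq_top_iff, ← S.gen, Subgroup.closure_le]
  intro g hg
  simp only [Set.mem_insert_iff, Set.mem_singleton_iff] at hg
  apply Subgroup.subset_closure
  rcases hg with rfl | rfl | rfl
  · exact ⟨1, by norm_num, by simp [gl3]⟩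
  · exact ⟨3, by norm_num, by simp [gl3]⟩
  · exact ⟨5, by norm_num, by simp [gl3]⟩

theorem letters_invC2 : ∀ x < 6, ∃ y < 6, (gl3 ga gb gc y)⁻¹ = ((gl3 ga gb gc x)⁻¹)⁻¹ := by
  intro x hx
  interval_cases x
  · exact ⟨1, by norm_num, by simp [gl3]⟩
  · exact ⟨0, by norm_num, by simp [gl3]⟩
  · exact ⟨3, by norm_num, by simp [gl3]⟩
  · exact ⟨2, by norm_num, by simp [gl3]⟩
  · exact ⟨5, by norm_num, by simp [gl3]⟩
  · exact ⟨4, by norm_num, by simp [gl3]⟩

/-- the list of the symbol values -/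
noncomputable def ζsC2 (ga gb gc : Γ) (A : Subgroup Γ) : List A := C2.symL.map (ρC2 ga gb gc A)

theorem wordsOKC2 (S : SettingC2 ga gb gc A) :
    letI := commGroupOfCentral A S.central
    haveI := smulComm_of_central A (Subgroup.closure {ga, gb}) S.central
    WordsOK C2.Ev (ntw (ζsC2 ga gb gc A)) (fun x => (gl3 ga gb gc x)⁻¹)
      (((1 : Γ) : Γ ⧸ Subgroup.closure {ga, gb})) C2.words 151 := by
  let _ := commGroupOfCentral A S.central
  intro w wd r hget
  have hm := WT.get_mem C2.words w (wd, r) hget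
  obtain ⟨h1, h2⟩ := C2.words_mem _ hm
  refine ⟨fun hr => ?_, fun hr hw => ?_, fun hr => ?_⟩
  · have hA := S.rel_all wd (h1 hr)
    refine ⟨⟨(wv3 ga gb gc wd)⁻¹, A.inv_mem hA⟩, fun q => ?_⟩
    rw [act_inv]
    rfl
  · subst hr
    have hs := C2.seed_mem w hw
    unfold C2.seedChk at hs
    rw [hget] at hs
    simp only [decide_eq_true_eq] at hs
    intro q
    rw [act_inv]
    rcases C2.seed_cases _ hs with ⟨he, hmem⟩ | hz
    · simp only [] at he hmem
      have hv : wv3 ga gb gc wd = 1 := by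
        rcases List.mem_append.mp hmem with h | h
        · exact S.exact wd h
        · exact wv3_pairC2 ga gb gc wd h
      change (wv3 ga gb gc wd)⁻¹ • q = _
      rw [hv, he, ntw_replicate_zero, inv_one, one_smul, one_smul]
    · simp only [C2.symL, C2.unitL, List.zip_cons_cons, List.zip_nil_right, List.mem_cons,
        Prod.mk.injEq, List.not_mem_nil, or_false] at hz
      have key : ∀ wd' (hwd : wd' ∈ C2.symL ++ C2.cenL) (e : List ℕ),
          ntw (ζsC2 ga gb gc A) e = ρC2 ga gb gc A wd' → wd = wd' → C2.Ev w = e →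
          ((List.map (gl3 ga gb gc) wd).prod)⁻¹ • q = ntw (ζsC2 ga gb gc A) (C2.Ev w) • q := by
        intro wd' hwd e he hw1 hw2
        rw [hw2, he, hw1]
        change _ = ((ρC2 ga gb gc A wd' : A) : Γ) • q
        rw [ρC2_coe wd' (S.rel wd' hwd)]
        rfl
      rcases hz with ⟨a, b⟩ | ⟨a, b⟩ | ⟨a, b⟩ | ⟨a, b⟩ | ⟨a, b⟩ | ⟨a, b⟩ | ⟨a, b⟩ | ⟨a, b⟩ | ⟨a, b⟩ | ⟨a, b⟩ | ⟨a, b⟩
      · exact key _ (List.mem_append_left _ (by decide)) _ (by simp [ζsC2, C2.symL, ntw]) a b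
      · exact key _ (List.mem_append_left _ (by decide)) _ (by simp [ζsC2, C2.symL, ntw]) a b
      · exact key _ (List.mem_append_left _ (by decide)) _ (by simp [ζsC2, C2.symL, ntw]) a b
      · exact key _ (List.mem_append_left _ (by decide)) _ (by simp [ζsC2, C2.symL, ntw]) a b
      · exact key _ (List.mem_append_left _ (by decide)) _ (by simp [ζsC2, C2.symL, ntw]) a b
      · exact key _ (List.mem_append_left _ (by decide)) _ (by simp [ζsC2, C2.symL, ntw]) a b
      · exact key _ (List.mem_append_left _ (by decide)) _ (by simp [ζsC2, C2.symL, ntw]) a b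
      · exact key _ (List.mem_append_left _ (by decide)) _ (by simp [ζsC2, C2.symL, ntw]) a b
      · exact key _ (List.mem_append_left _ (by decide)) _ (by simp [ζsC2, C2.symL, ntw]) a b
      · exact key _ (List.mem_append_left _ (by decide)) _ (by simp [ζsC2, C2.symL, ntw]) a b
      · exact key _ (List.mem_append_left _ (by decide)) _ (by simp [ζsC2, C2.symL, ntw]) a b
  · have hsub := h2 hr
    rw [act_inv]
    have hmem : (List.map (gl3 ga gb gc) wd).prod ∈ Subgroup.closure {ga, gb} := by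
      simp only [C2.subL, List.mem_cons, List.not_mem_nil, or_false] at hsub
      rcases hsub with rfl | rfl
      · simp only [List.map_cons, List.map_nil, List.prod_cons, List.prod_nil, mul_one, gl3]
        exact Subgroup.subset_closure (by simp)
      · simp only [List.map_cons, List.map_nil, List.prod_cons, List.prod_nil, mul_one, gl3]
        exact Subgroup.subset_closure (by simp)
    rw [MulAction.Quotient.smul_mk, QuotientGroup.eq]
    simpa using hmem

end main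

section final

variable {Γ : Type*} [Group Γ] {ga gb gc : Γ} {A : Subgroup Γ}

/-- **Main theorem of the stage 2 certificate.** -/
theorem mono_mainC2 (S : SettingC2 ga gb gc A) :
    (wv3 ga gb gc x0W)⁻¹ * (wv3 ga gb gc x8W)⁻¹ ∈ A ∧ (wv3 ga gb gc w10W)⁻¹ ∈ A ∧
      ((wv3 ga gb gc x0W)⁻¹ * (wv3 ga gb gc x8W)⁻¹) ^ 6 = 1 ∧ ((wv3 ga gb gc w10W)⁻¹) ^ 2 = 1 ∧
      ∃ f : Fin 672 × ↥(Subgroup.closure ({(wv3 ga gb gc x0W)⁻¹ * (wv3 ga gb gc x8W)⁻¹,
          (wv3 ga gb gc w10W)⁻¹} : Set Γ)) → Γ ⧸ Subgroup.closure {ga, gb}, Function.Surjective f := by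
  let _ := commGroupOfCentral A S.central
  have := smulComm_of_central A (Subgroup.closure {ga, gb}) S.central
  have h0mem : wv3 ga gb gc x0W ∈ A := S.rel x0W (List.mem_append_left _ (by decide))
  have h8mem : wv3 ga gb gc x8W ∈ A := S.rel x8W (List.mem_append_left _ (by decide))
  have h10mem : wv3 ga gb gc w10W ∈ A := S.rel w10W (List.mem_append_left _ (by decide))
  set Q := Γ ⧸ Subgroup.closure {ga, gb} with hQ
  set q0 : Q := ((1 : Γ) : Q) with hq0
  set tw : List ℕ → A := ntw (ζsC2 ga gb gc A) with htw_def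
  set γ : ℕ → Γ := fun x => (gl3 ga gb gc x)⁻¹ with hγ
  have hζN : ∀ ζ ∈ ζsC2 ga gb gc A, ζ ^ C2.NN = 1 := by
    intro ζ hζ
    obtain ⟨w, hw, rfl⟩ := List.mem_map.mp hζ
    apply Subtype.ext
    rw [Subgroup.coe_pow, ρC2_coe w (S.rel w (List.mem_append_left _ hw)), inv_pow, S.tors w hw]
    simp
  have htw : TwOK (nadd C2.NN) (List.replicate 11 0) neq tw := ntw_ok C2.NN _ hζN 11
  have hfree : ∀ (α β : A) (q : Q), α • q = β • q → α = β :=
    free_of_disj A (Subgroup.closure {ga, gb}) S.central S.disj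
  have hw := wordsOKC2 S
  have hI := C2.run tw γ hfree htw q0 hw
  obtain ⟨c, hc0, hwords, hcov⟩ := covered C2.F C2.Ev 6 65536 tw γ q0 C2.words 4032 672 167
    hI C2.rows C2.rows_ok C2.rows_length (gens_topC2 S) letters_invC2
  -- the relations
  have hrel : ∀ p ∈ C2.relPairs, tw p.2.2 = 1 := by
    intro p hp
    have hchk := C2.rel_chk p hp
    unfold C2.relChk at hchk
    rcases h1 : WT.get C2.words p.1 with _ | ⟨wd1, r1⟩
    · rw [h1] at hchk; exact absurd hchk (by simp)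
    · rcases h2 : WT.get C2.words p.2.1 with _ | ⟨wd2, r2⟩
      · rw [h1, h2] at hchk
        cases r1 <;> exact absurd hchk (by simp)
      · rw [h1, h2] at hchk
        cases r1 with
        | false => exact absurd hchk (by simp)
        | true =>
          cases r2 with
          | false => exact absurd hchk (by simp)
          | true =>
            simp only [Bool.and_eq_true, decide_eq_true_eq] at hchk
            obtain ⟨⟨⟨hwd, hev⟩, hlt1⟩, hlt2⟩ := hchk
            subst hwd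
            have e1 := hwords p.1 hlt1 wd1 h1 q0
            have e2 := hwords p.2.1 hlt2 wd1 h2 q0
            have e3 : tw (C2.Ev p.1) = tw (C2.Ev p.2.1) := hfree _ _ q0 (e1.symm.trans e2)
            rw [hev, htw.add] at e3
            exact (mul_eq_left.mp e3.symm)
  have hR : ∀ v ∈ C2.relPairs.map (fun p => p.2.2),
      nsum ((ζsC2 ga gb gc A).map Additive.ofMul) v = 0 := by
    intro v hv
    obtain ⟨p, hp, rfl⟩ := List.mem_map.mp hv
    exact nsum_eq_zero _ _ (hrel p hp)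
  have hζ : ζsC2 ga gb gc A = [ρC2 ga gb gc A [0, 4, 0, 4],
      ρC2 ga gb gc A [4, 3, 0, 2, 0, 2, 2, 5, 1, 3, 3, 1, 3, 1, 2, 0],
      ρC2 ga gb gc A [0, 0, 0, 5, 3, 0, 0, 3, 0, 0, 0, 5, 3, 0, 0, 3],
      ρC2 ga gb gc A [4, 1, 2, 1, 3, 1, 3, 3, 0, 5, 1, 1, 2, 2, 0, 2, 0, 3, 0, 0],
      ρC2 ga gb gc A [4, 3, 1, 1, 3, 1, 3, 0, 2, 5, 1, 3, 1, 2, 0, 2, 0, 0, 2, 0],
      ρC2 ga gb gc A [0, 2, 0, 2, 2, 1, 2, 5, 0, 2, 1, 3, 4, 3, 3, 1, 3, 3],
      ρC2 ga gb gc A [4, 0, 2, 0, 3, 1, 2, 1, 3, 5, 3, 0, 3, 3, 1, 3, 0, 2, 2, 1, 1],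
      ρC2 ga gb gc A [4, 1, 2, 2, 2, 1, 1, 2, 0, 0, 3, 5, 0, 3, 0, 2, 1, 2, 2, 2, 1, 1],
      ρC2 ga gb gc A [4, 2, 0, 3, 3, 0, 0, 0, 3, 1, 2, 5, 3, 3, 0, 0, 0, 2, 0, 3, 0, 2],
      ρC2 ga gb gc A [0, 2, 0, 2, 5, 3, 1, 2, 0, 4, 3, 1, 3, 4, 3, 0, 2, 4],
      ρC2 ga gb gc A [0, 2, 0, 3, 3, 5, 0, 3, 5, 2, 1, 3, 5, 2, 5, 2, 5, 2]] := rfl
  have hn : ∀ ζ ∈ ζsC2 ga gb gc A, (23887872 : ℤ) • Additive.ofMul ζ = 0 := fun z hz =>
    zsmul_ofMul_eq_zero z 23887872 (hζN z hz)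
  rw [hζ] at hR hn
  obtain ⟨t0, t8, t10, k1, k3, k4, k5, k6, k2, k7, k9⟩ := C2.rel_alg_add _ _ _ _ _ _ _ _ _ _ _
    (hn _ (by simp)) (hn _ (by simp)) (hn _ (by simp)) (hn _ (by simp)) (hn _ (by simp)) (hn _ (by simp)) (hn _ (by simp)) (hn _ (by simp)) (hn _ (by simp)) (hn _ (by simp)) (hn _ (by simp))
    (hR [0, 0, 0, 0, 0, 0, 1, 0, 0, 0, 0] (by decide)) (hR [0, 0, 0, 0, 0, 1, 0, 0, 0, 0, 0] (by decide)) (hR [0, 2, 0, 0, 0, 0, 0, 0, 0, 0, 0] (by decide)) (hR [0, 0, 0, 2, 0, 0, 0, 0, 0, 0, 0] (by decide)) (hR [0, 0, 0, 0, 2, 0, 0, 0, 0, 0, 0] (by decide)) (hR [0, 1, 0, 0, 23887871, 0, 0, 0, 0, 0, 0] (by decide)) (hR [2, 0, 0, 0, 0, 0, 0, 0, 0, 23887870, 0] (by decide)) (hR [23887871, 0, 23887871, 0, 0, 1, 0, 0, 2, 0, 0] (by decide)) (hR [23887871, 0, 23887871, 0, 0, 0, 23887871, 0, 23887870, 0, 0] (by decide)) (hR [23887871, 23887869, 23887871, 0, 0, 0, 1, 0, 0, 0, 0] (by decide)) (hR [23887871, 23887867, 23887871, 0, 0, 0, 2, 2,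 2, 0, 0] (by decide)) (hR [0, 23887869, 1, 0, 23887869, 0, 23887866, 0, 23887870, 1, 0] (by decide)) (hR [2, 0, 2, 0, 0, 6, 23887866, 23887870, 0, 0, 0] (by decide)) (hR [23887871, 23887869, 23887871, 23887871, 23887871, 23887851, 0, 2, 0, 0, 0] (by decide)) (hR [23887861, 23887478, 23887863, 18, 18, 23887698, 384, 11, 23887592, 23887871, 1] (by decide)) (hR [23887870, 23887080, 12, 23887871, 9, 328, 295, 23887788, 82, 23887871, 23887866] (by decide))
  set z0 : A := ρC2 ga gb gc A x0W with hz0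
  set z8 : A := ρC2 ga gb gc A x8W with hz8
  set z10 : A := ρC2 ga gb gc A w10W with hz10
  have hz0c : (z0 : Γ) = (wv3 ga gb gc x0W)⁻¹ := ρC2_coe x0W h0mem
  have hz8c : (z8 : Γ) = (wv3 ga gb gc x8W)⁻¹ := ρC2_coe x8W h8mem
  have hz10c : (z10 : Γ) = (wv3 ga gb gc w10W)⁻¹ := ρC2_coe w10W h10mem
  have e0 : z0 ^ 3 = 1 := by
    apply Additive.ofMul.injective
    rw [ofMul_pow, ← natCast_zsmul]
    exact t0
  have e8 : z8 ^ 2 = 1 := by
    apply Additive.ofMul.injective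
    rw [ofMul_pow, ← natCast_zsmul]
    exact t8
  have e10 : z10 ^ 2 = 1 := by
    apply Additive.ofMul.injective
    rw [ofMul_pow, ← natCast_zsmul]
    exact t10
  set X : Γ := (wv3 ga gb gc x0W)⁻¹ * (wv3 ga gb gc x8W)⁻¹ with hX
  set W : Γ := (wv3 ga gb gc w10W)⁻¹ with hW
  have hXc : ((z0 * z8 : A) : Γ) = X := by rw [Subgroup.coe_mul, hz0c, hz8c]
  have hX6 : (z0 * z8) ^ 6 = 1 := by
    rw [mul_pow, show (6 : ℕ) = 3 * 2 from rfl, pow_mul, e0, one_pow, pow_mul', e8, one_pow, one_mul]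
  have hx4 : (z0 * z8) ^ 4 = z0 := by
    rw [mul_pow, show (4 : ℕ) = 3 + 1 from rfl, pow_add, e0, one_mul, pow_one,
      show (3 + 1 : ℕ) = 2 * 2 from rfl, pow_mul, e8, one_pow, mul_one]
  have hx3 : (z0 * z8) ^ 3 = z8 := by
    rw [mul_pow, e0, one_mul, show (3 : ℕ) = 2 + 1 from rfl, pow_add, e8, one_mul, pow_one]
  set Z : Subgroup Γ := Subgroup.closure ({X, W} : Set Γ) with hZ
  have hXZ : X ∈ Z := Subgroup.subset_closure (by simp)
  have hWZ : W ∈ Z := Subgroup.subset_closure (by simp)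
  have m0 : (z0 : Γ) ∈ Z := by
    rw [← hx4, Subgroup.coe_pow, hXc]; exact pow_mem hXZ 4
  have m8 : (z8 : Γ) ∈ Z := by
    rw [← hx3, Subgroup.coe_pow, hXc]; exact pow_mem hXZ 3
  have m10 : (z10 : Γ) ∈ Z := by rw [hz10c]; exact hWZ
  have hall : ∀ a ∈ ζsC2 ga gb gc A, (a : Γ) ∈ Z := by
    intro a ha
    rw [hζ] at ha
    simp only [List.mem_cons, List.not_mem_nil, or_false] at ha
    rcases ha with rfl | rfl | rfl | rfl | rfl | rfl | rfl | rfl | rfl | rfl | rfl
    · exact m0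
    · rw [Additive.ofMul.injective k1]; exact one_mem _
    · have h2 : ρC2 ga gb gc A [0, 0, 0, 5, 3, 0, 0, 3, 0, 0, 0, 5, 3, 0, 0, 3] = z0 ^ 2 := by
        apply Additive.ofMul.injective
        rw [ofMul_pow, ← natCast_zsmul]
        exact k2
      rw [h2, Subgroup.coe_pow]; exact pow_mem m0 2
    · rw [Additive.ofMul.injective k3]; exact one_mem _
    · rw [Additive.ofMul.injective k4]; exact one_mem _
    · rw [Additive.ofMul.injective k5]; exact one_mem _
    · rw [Additive.ofMul.injective k6]; exact one_mem _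
    · rw [Additive.ofMul.injective k7]; exact m10
    · exact m8
    · rw [Additive.ofMul.injective k9]; exact m0
    · exact m10
  have hpow : ∀ a ∈ Subgroup.closure (Set.range tw), (a : Γ) ∈ Z := by
    intro a ha
    have hle : Subgroup.closure (Set.range tw) ≤ Z.comap A.subtype := by
      rw [Subgroup.closure_le]
      rintro _ ⟨t, rfl⟩
      have h1 := ntw_mem_closure (ζsC2 ga gb gc A) t
      have h2 : Subgroup.closure {a : A | a ∈ ζsC2 ga gb gc A} ≤ Z.comap A.subtype := by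
        rw [Subgroup.closure_le]
        intro a ha
        exact hall a ha
      exact h2 h1
    exact hle ha
  refine ⟨?_, ?_, ?_, ?_, ?_⟩
  · rw [← hXc]; exact (z0 * z8).2
  · rw [← hz10c]; exact z10.2
  · rw [← hXc, ← Subgroup.coe_pow, hX6]; rfl
  · rw [← hz10c, ← Subgroup.coe_pow, e10]; rfl
  · refine ⟨fun p => ((p.2 : Γ)) • c p.1, ?_⟩
    intro q
    obtain ⟨i, hi, α, hα, rfl⟩ := hcov q
    exact ⟨(⟨i, hi⟩, ⟨(α : Γ), hpow α hα⟩), rfl⟩

end final

end Cfsg.Agent.Lib.H16.U62M
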