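import Cfsg.Agent.Lib.H16.G24M.Glue1
import Cfsg.Agent.Lib.H16.U62M.P1.Run
import Cfsg.Agent.Lib.H16.U62M.P1.Lists
import Cfsg.Agent.Lib.H16.U62M.P1.Alg

set_option autoImplicit false
set_option maxRecDepth 100000
set_option maxHeartbeats 4000000

/-!
# Stage 1, first part: a partial monomial certificate of `U5(2) = ⟨a, t, b⟩` over `⟨a, t⟩ = 11:5` which
shows that all the relators it uses are trivial (helper16; generated by `tools/u62_h16/gen_p1_glue.py`)

`SettingP1 ga gt gb A`: the four exact relators hold, all other relators have values in the central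
subgroup `A`, which meets `⟨ga, gt⟩` trivially, the symbol relators have order dividing `23887872`.
Conclusion: all relators of `P1.symL ++ P1.cenL` are trivial.
-/

namespace Cfsg.Agent.Lib.H16.U62M

open Cfsg.Agent.Lib.H17.CosetCert (WT act)
open Cfsg.Agent.Lib.H17.MonoCert
open Cfsg.Agent.Lib.H16.G24M (nadd neq ntw ntw_ok ntw_replicate_zero nsum ofMul_ntw nsum_eq_zero
  zsmul_ofMul_eq_zero ntw_eq_one_of_all_one)
open Cfsg.Agent.Lib.H12.J3M (gl3 wv3 act_inv commGroupOfCentral smulComm_of_central free_of_disj)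

section

variable {Γ : Type*} [Group Γ] (ga gt gb : Γ)

/-- the hypotheses on the group -/
structure SettingP1 (A : Subgroup Γ) : Prop where
  central : A ≤ Subgroup.center Γ
  disj : ∀ x ∈ Subgroup.closure {ga, gt}, x ∈ A → x = 1
  exact : ∀ w ∈ P1.exactL, wv3 ga gt gb w = 1
  rel : ∀ w ∈ P1.symL ++ P1.cenL, wv3 ga gt gb w ∈ A
  tors : ∀ w ∈ P1.symL, (wv3 ga gt gb w) ^ 23887872 = 1

theorem wv3_pairP1 : ∀ w ∈ P1.pairL, wv3 ga gt gb w = 1 := by
  intro w hw
  simp only [P1.pairL, List.mem_cons, List.not_mem_nil, or_false] at hw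
  rcases hw with rfl | rfl | rfl | rfl | rfl | rfl <;> simp [wv3, gl3]

variable {ga gt gb}

theorem SettingP1.rel_all {A : Subgroup Γ} (S : SettingP1 ga gt gb A) :
    ∀ w ∈ P1.relL, wv3 ga gt gb w ∈ A := by
  intro w hw
  rcases P1.rel_cases w hw with h | h
  · rcases List.mem_append.mp h with h1 | h1
    · rw [S.exact w h1]; exact one_mem _
    · rw [wv3_pairP1 ga gt gb w h1]; exact one_mem _
  · exact S.rel w h

end

section main

variable {Γ : Type*} [Group Γ] {ga gt gb : Γ} {A : Subgroup Γ}

open Classical in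
/-- the inverse of the value of a word, as an element of `A` (`1` if the value is not in `A`) -/
noncomputable def ρP1 (ga gt gb : Γ) (A : Subgroup Γ) (w : List ℕ) : A :=
  if h : wv3 ga gt gb w ∈ A then ⟨(wv3 ga gt gb w)⁻¹, A.inv_mem h⟩ else 1

theorem ρP1_coe (w : List ℕ) (h : wv3 ga gt gb w ∈ A) :
    ((ρP1 ga gt gb A w : A) : Γ) = (wv3 ga gt gb w)⁻¹ := by
  unfold ρP1
  rw [dif_pos h]

/-- the list of the symbol values -/
noncomputable def ζsP1 (ga gt gb : Γ) (A : Subgroup Γ) : List A := P1.symL.map (ρP1 ga gt gb A)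

theorem wordsOKP1 (S : SettingP1 ga gt gb A) :
    letI := commGroupOfCentral A S.central
    haveI := smulComm_of_central A (Subgroup.closure {ga, gt}) S.central
    WordsOK P1.Ev (ntw (ζsP1 ga gt gb A)) (fun x => (gl3 ga gt gb x)⁻¹)
      (((1 : Γ) : Γ ⧸ Subgroup.closure {ga, gt})) P1.words 51 := by
  let _ := commGroupOfCentral A S.central
  intro w wd r hget
  have hm := WT.get_mem P1.words w (wd, r) hget
  obtain ⟨h1, h2⟩ := P1.words_mem _ hm
  refine ⟨fun hr => ?_, fun hr hw => ?_, fun hr => ?_⟩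
  · have hA := S.rel_all wd (h1 hr)
    refine ⟨⟨(wv3 ga gt gb wd)⁻¹, A.inv_mem hA⟩, fun q => ?_⟩
    rw [act_inv]
    rfl
  · subst hr
    have hs := P1.seed_mem w hw
    unfold P1.seedChk at hs
    rw [hget] at hs
    simp only [decide_eq_true_eq] at hs
    intro q
    rw [act_inv]
    rcases P1.seed_cases _ hs with ⟨he, hmem⟩ | hz
    · simp only [] at he hmem
      have hv : wv3 ga gt gb wd = 1 := by
        rcases List.mem_append.mp hmem with h | h
        · exact S.exact wd h
        · exact wv3_pairP1 ga gt gb wd h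
      change (wv3 ga gt gb wd)⁻¹ • q = _
      rw [hv, he, ntw_replicate_zero, inv_one, one_smul, one_smul]
    · simp only [P1.symL, P1.unitL, List.zip_cons_cons, List.zip_nil_right, List.mem_cons,
        Prod.mk.injEq, List.not_mem_nil, or_false] at hz
      have key : ∀ wd' (hwd : wd' ∈ P1.symL ++ P1.cenL) (e : List ℕ),
          ntw (ζsP1 ga gt gb A) e = ρP1 ga gt gb A wd' → wd = wd' → P1.Ev w = e →
          ((List.map (gl3 ga gt gb) wd).prod)⁻¹ • q = ntw (ζsP1 ga gt gb A) (P1.Ev w) • q := by
        intro wd' hwd e he hw1 hw2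
        rw [hw2, he, hw1]
        change _ = ((ρP1 ga gt gb A wd' : A) : Γ) • q
        rw [ρP1_coe wd' (S.rel wd' hwd)]
        rfl
      rcases hz with ⟨a, b⟩ | ⟨a, b⟩ | ⟨a, b⟩ | ⟨a, b⟩ | ⟨a, b⟩ | ⟨a, b⟩ | ⟨a, b⟩ | ⟨a, b⟩ | ⟨a, b⟩ | ⟨a, b⟩ | ⟨a, b⟩ | ⟨a, b⟩ | ⟨a, b⟩ | ⟨a, b⟩ | ⟨a, b⟩ | ⟨a, b⟩ | ⟨a, b⟩ | ⟨a, b⟩ | ⟨a, b⟩ | ⟨a, b⟩ | ⟨a, b⟩ | ⟨a, b⟩ | ⟨a, b⟩ | ⟨a, b⟩ | ⟨a, b⟩ | ⟨a, b⟩ | ⟨a, b⟩ | ⟨a, b⟩ | ⟨a, b⟩ | ⟨a, b⟩ | ⟨a, b⟩ | ⟨a, b⟩ | ⟨a, b⟩ | ⟨a, b⟩ | ⟨a, b⟩ | ⟨a, b⟩ | ⟨a, b⟩ | ⟨a, b⟩ | ⟨a, b⟩
      · exact key _ (List.mem_append_left _ (by decide)) _ (by simp [ζsP1, P1.symL, ntw]) a b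
      · exact key _ (List.mem_append_left _ (by decide)) _ (by simp [ζsP1, P1.symL, ntw]) a b
      · exact key _ (List.mem_append_left _ (by decide)) _ (by simp [ζsP1, P1.symL, ntw]) a b
      · exact key _ (List.mem_append_left _ (by decide)) _ (by simp [ζsP1, P1.symL, ntw]) a b
      · exact key _ (List.mem_append_left _ (by decide)) _ (by simp [ζsP1, P1.symL, ntw]) a b
      · exact key _ (List.mem_append_left _ (by decide)) _ (by simp [ζsP1, P1.symL, ntw]) a b
      · exact key _ (List.mem_append_left _ (by decide)) _ (by simp [ζsP1, P1.symL, ntw]) a b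
      · exact key _ (List.mem_append_left _ (by decide)) _ (by simp [ζsP1, P1.symL, ntw]) a b
      · exact key _ (List.mem_append_left _ (by decide)) _ (by simp [ζsP1, P1.symL, ntw]) a b
      · exact key _ (List.mem_append_left _ (by decide)) _ (by simp [ζsP1, P1.symL, ntw]) a b
      · exact key _ (List.mem_append_left _ (by decide)) _ (by simp [ζsP1, P1.symL, ntw]) a b
      · exact key _ (List.mem_append_left _ (by decide)) _ (by simp [ζsP1, P1.symL, ntw]) a b
      · exact key _ (List.mem_append_left _ (by decide)) _ (by simp [ζsP1, P1.symL, ntw]) a b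
      · exact key _ (List.mem_append_left _ (by decide)) _ (by simp [ζsP1, P1.symL, ntw]) a b
      · exact key _ (List.mem_append_left _ (by decide)) _ (by simp [ζsP1, P1.symL, ntw]) a b
      · exact key _ (List.mem_append_left _ (by decide)) _ (by simp [ζsP1, P1.symL, ntw]) a b
      · exact key _ (List.mem_append_left _ (by decide)) _ (by simp [ζsP1, P1.symL, ntw]) a b
      · exact key _ (List.mem_append_left _ (by decide)) _ (by simp [ζsP1, P1.symL, ntw]) a b
      · exact key _ (List.mem_append_left _ (by decide)) _ (by simp [ζsP1, P1.symL, ntw]) a b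
      · exact key _ (List.mem_append_left _ (by decide)) _ (by simp [ζsP1, P1.symL, ntw]) a b
      · exact key _ (List.mem_append_left _ (by decide)) _ (by simp [ζsP1, P1.symL, ntw]) a b
      · exact key _ (List.mem_append_left _ (by decide)) _ (by simp [ζsP1, P1.symL, ntw]) a b
      · exact key _ (List.mem_append_left _ (by decide)) _ (by simp [ζsP1, P1.symL, ntw]) a b
      · exact key _ (List.mem_append_left _ (by decide)) _ (by simp [ζsP1, P1.symL, ntw]) a b
      · exact key _ (List.mem_append_left _ (by decide)) _ (by simp [ζsP1, P1.symL, ntw]) a b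
      · exact key _ (List.mem_append_left _ (by decide)) _ (by simp [ζsP1, P1.symL, ntw]) a b
      · exact key _ (List.mem_append_left _ (by decide)) _ (by simp [ζsP1, P1.symL, ntw]) a b
      · exact key _ (List.mem_append_left _ (by decide)) _ (by simp [ζsP1, P1.symL, ntw]) a b
      · exact key _ (List.mem_append_left _ (by decide)) _ (by simp [ζsP1, P1.symL, ntw]) a b
      · exact key _ (List.mem_append_left _ (by decide)) _ (by simp [ζsP1, P1.symL, ntw]) a b
      · exact key _ (List.mem_append_left _ (by decide)) _ (by simp [ζsP1, P1.symL, ntw]) a b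
      · exact key _ (List.mem_append_left _ (by decide)) _ (by simp [ζsP1, P1.symL, ntw]) a b
      · exact key _ (List.mem_append_left _ (by decide)) _ (by simp [ζsP1, P1.symL, ntw]) a b
      · exact key _ (List.mem_append_left _ (by decide)) _ (by simp [ζsP1, P1.symL, ntw]) a b
      · exact key _ (List.mem_append_left _ (by decide)) _ (by simp [ζsP1, P1.symL, ntw]) a b
      · exact key _ (List.mem_append_left _ (by decide)) _ (by simp [ζsP1, P1.symL, ntw]) a b
      · exact key _ (List.mem_append_left _ (by decide)) _ (by simp [ζsP1, P1.symL, ntw]) a b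
      · exact key _ (List.mem_append_left _ (by decide)) _ (by simp [ζsP1, P1.symL, ntw]) a b
      · exact key _ (List.mem_append_left _ (by decide)) _ (by simp [ζsP1, P1.symL, ntw]) a b
  · have hsub := h2 hr
    rw [act_inv]
    have hmem : (List.map (gl3 ga gt gb) wd).prod ∈ Subgroup.closure {ga, gt} := by
      simp only [P1.subL, List.mem_cons, List.not_mem_nil, or_false] at hsub
      rcases hsub with rfl | rfl
      · simp only [List.map_cons, List.map_nil, List.prod_cons, List.prod_nil, mul_one, gl3]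
        exact Subgroup.subset_closure (by simp)
      · simp only [List.map_cons, List.map_nil, List.prod_cons, List.prod_nil, mul_one, gl3]
        exact Subgroup.subset_closure (by simp)
    rw [MulAction.Quotient.smul_mk, QuotientGroup.eq]
    simpa using hmem

end main

section final

variable {Γ : Type*} [Group Γ] {ga gt gb : Γ} {A : Subgroup Γ}

/-- every symbol or central word occurs among the words with an index below `275` -/
noncomputable def idxOK : Bool :=
  (P1.symL ++ P1.cenL).all fun w => (List.range 275).any fun j =>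
    match WT.get P1.words j with
    | some (wd, true) => decide (wd = w)
    | _ => false

theorem idxOK_true : idxOK = true := by
  decide +kernel

theorem exists_idx (w : List ℕ) (hw : w ∈ P1.symL ++ P1.cenL) :
    ∃ j < 275, WT.get P1.words j = some (w, true) := by
  have h := List.all_eq_true.mp idxOK_true w hw
  obtain ⟨j, hj, hj2⟩ := List.any_eq_true.mp h
  refine ⟨j, List.mem_range.mp hj, ?_⟩
  rcases hg : WT.get P1.words j with _ | ⟨wd, r⟩
  · rw [hg] at hj2; exact absurd hj2 (by simp)
  · rw [hg] at hj2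
    cases r with
    | false => exact absurd hj2 (by simp)
    | true =>
      simp only [decide_eq_true_eq] at hj2
      rw [hj2]

/-- **Main theorem of the first certificate of stage 1.** -/
theorem mono_mainP1 (S : SettingP1 ga gt gb A) :
    ∀ w ∈ P1.symL ++ P1.cenL, wv3 ga gt gb w = 1 := by
  let _ := commGroupOfCentral A S.central
  have := smulComm_of_central A (Subgroup.closure {ga, gt}) S.central
  set Q := Γ ⧸ Subgroup.closure {ga, gt} with hQ
  set q0 : Q := ((1 : Γ) : Q) with hq0
  set tw : List ℕ → A := ntw (ζsP1 ga gt gb A) with htw_def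
  set γ : ℕ → Γ := fun x => (gl3 ga gt gb x)⁻¹ with hγ
  have hζN : ∀ ζ ∈ ζsP1 ga gt gb A, ζ ^ P1.NN = 1 := by
    intro ζ hζ
    obtain ⟨w, hw, rfl⟩ := List.mem_map.mp hζ
    apply Subtype.ext
    rw [Subgroup.coe_pow, ρP1_coe w (S.rel w (List.mem_append_left _ hw)), inv_pow, S.tors w hw]
    simp
  have htw : TwOK (nadd P1.NN) (List.replicate 39 0) neq tw := ntw_ok P1.NN _ hζN 39
  have hfree : ∀ (α β : A) (q : Q), α • q = β • q → α = β :=
    free_of_disj A (Subgroup.closure {ga, gt}) S.central S.disj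
  have hw := wordsOKP1 S
  have hI := P1.run tw γ hfree htw q0 hw
  obtain ⟨-, c, hc0, -, hwords⟩ := hI
  -- the relations
  have hrel : ∀ p ∈ P1.relPairs, tw p.2.2 = 1 := by
    intro p hp
    have hchk := P1.rel_chk p hp
    unfold P1.relChk at hchk
    rcases h1 : WT.get P1.words p.1 with _ | ⟨wd1, r1⟩
    · rw [h1] at hchk; exact absurd hchk (by simp)
    · rcases h2 : WT.get P1.words p.2.1 with _ | ⟨wd2, r2⟩
      · rw [h1, h2] at hchk
        cases r1 <;> exact absurd hchk (by simp)
      · rw [h1, h2] at hchk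
        cases r1 with
        | false => exact absurd hchk (by simp)
        | true =>
          cases r2 with
          | false => exact absurd hchk (by simp)
          | true =>
            simp only [Bool.and_eq_true, decide_eq_true_eq] at hchk
            obtain ⟨⟨⟨hwd, hev⟩, hlt1⟩, hlt2⟩ := hchk
            subst hwd
            have e1 := hwords p.1 hlt1 wd1 h1 q0
            have e2 := hwords p.2.1 hlt2 wd1 h2 q0
            have e3 : tw (P1.Ev p.1) = tw (P1.Ev p.2.1) := hfree _ _ q0 (e1.symm.trans e2)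
            rw [hev, htw.add] at e3
            exact (mul_eq_left.mp e3.symm)
  have hall : ∀ a ∈ ζsP1 ga gt gb A, a = 1 :=
    all_one_of_cert P1.NN (ζsP1 ga gt gb A) hζN (P1.relPairs.map fun p => p.2.2)
      (by
        intro r hr
        obtain ⟨p, hp, rfl⟩ := List.mem_map.mp hr
        exact hrel p hp) 39 (by unfold ζsP1; rw [List.length_map]; rfl) P1.certC P1.certC_ok
  have htw1 : ∀ t, tw t = 1 := fun t => ntw_eq_one_of_all_one _ hall t
  intro w hw
  obtain ⟨j, hj, hget⟩ := exists_idx w hw
  have e1 := hwords j hj w hget q0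
  rw [htw1, one_smul, act_inv] at e1
  have hA := S.rel w hw
  have e2 : (⟨(wv3 ga gt gb w)⁻¹, A.inv_mem hA⟩ : A) • q0 = (1 : A) • q0 := by
    rw [one_smul]
    exact e1
  have e3 := hfree _ _ q0 e2
  have e4 : (wv3 ga gt gb w)⁻¹ = 1 := congrArg Subtype.val e3
  exact inv_eq_one.mp e4

end final

end Cfsg.Agent.Lib.H16.U62M
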