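import Cfsg.Agent.Lib.H16.G24M.Glue1
import Cfsg.Agent.Lib.H16.U62M.P2.Run
import Cfsg.Agent.Lib.H16.U62M.P2.Lists
import Cfsg.Agent.Lib.H16.U62M.Base

set_option autoImplicit false
set_option maxRecDepth 100000

/-!
# Stage 1, second part: the coset enumeration of `U5(2) = ⟨a, t, b⟩` over `⟨a, t⟩ = 11:5` (helper16)

`SettingP2 ga gt gb`: the words of `P2.exactL` are trivial for `ga gt gb`, which generate.  Conclusion:
`⟨ga, gt⟩` has at most `248832` cosets.  (No twists: the certificate runs with the trivial subgroup.)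
-/

namespace Cfsg.Agent.Lib.H16.U62M

open Cfsg.Agent.Lib.H17.CosetCert (WT act)
open Cfsg.Agent.Lib.H17.MonoCert
open Cfsg.Agent.Lib.H16.G24M (nadd neq ntw ntw_ok ntw_replicate_zero)
open Cfsg.Agent.Lib.H12.J3M (gl3 wv3 act_inv commGroupOfCentral smulComm_of_central free_of_disj)

section

variable {Γ : Type*} [Group Γ] (ga gt gb : Γ)

theorem wv3_pairP2 : ∀ w ∈ P2.pairL, wv3 ga gt gb w = 1 := by
  intro w hw
  simp only [P2.pairL, List.mem_cons, List.not_mem_nil, or_false] at hw
  rcases hw with rfl | rfl | rfl | rfl | rfl | rfl <;> simp [wv3, gl3]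

variable {ga gt gb}

theorem SettingP2.rel_all (S : SettingP2 ga gt gb) : ∀ w ∈ P2.relL, wv3 ga gt gb w = 1 := by
  intro w hw
  rcases List.mem_append.mp (P2.rel_cases w hw) with h1 | h1
  · exact S.exact w h1
  · exact wv3_pairP2 ga gt gb w h1

theorem gens_topP2 (S : SettingP2 ga gt gb) :
    Subgroup.closure {g : Γ | ∃ x < 6, g = (gl3 ga gt gb x)⁻¹} = ⊤ := by
  rw [eq_top_iff, ← S.gen, Subgroup.closure_le]
  intro g hg
  simp only [Set.mem_insert_iff, Set.mem_singleton_iff] at hg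
  apply Subgroup.subset_closure
  rcases hg with rfl | rfl | rfl
  · exact ⟨1, by norm_num, by simp [gl3]⟩
  · exact ⟨3, by norm_num, by simp [gl3]⟩
  · exact ⟨5, by norm_num, by simp [gl3]⟩

theorem letters_inv3 : ∀ x < 6, ∃ y < 6, (gl3 ga gt gb y)⁻¹ = ((gl3 ga gt gb x)⁻¹)⁻¹ := by
  intro x hx
  interval_cases x
  · exact ⟨1, by norm_num, by simp [gl3]⟩
  · exact ⟨0, by norm_num, by simp [gl3]⟩
  · exact ⟨3, by norm_num, by simp [gl3]⟩
  · exact ⟨2, by norm_num, by simp [gl3]⟩
  · exact ⟨5, by norm_num, by simp [gl3]⟩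
  · exact ⟨4, by norm_num, by simp [gl3]⟩

theorem wordsOKP2 (S : SettingP2 ga gt gb) :
    letI := commGroupOfCentral (⊥ : Subgroup Γ) bot_le
    haveI := smulComm_of_central (⊥ : Subgroup Γ) (Subgroup.closure {ga, gt}) bot_le
    WordsOK P2.Ev (ntw ([] : List (⊥ : Subgroup Γ))) (fun x => (gl3 ga gt gb x)⁻¹)
      (((1 : Γ) : Γ ⧸ Subgroup.closure {ga, gt})) P2.words 231 := by
  let _ := commGroupOfCentral (⊥ : Subgroup Γ) bot_le
  intro w wd r hget
  have hm := WT.get_mem P2.words w (wd, r) hget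
  obtain ⟨h1, h2⟩ := P2.words_mem _ hm
  refine ⟨fun hr => ?_, fun hr hw => ?_, fun hr => ?_⟩
  · refine ⟨1, fun q => ?_⟩
    rw [act_inv]
    change (wv3 ga gt gb wd)⁻¹ • q = _
    rw [S.rel_all wd (h1 hr), inv_one, one_smul, one_smul]
  · intro q
    rw [act_inv]
    change (wv3 ga gt gb wd)⁻¹ • q = _
    rw [S.rel_all wd (h1 hr), inv_one, one_smul]
    change q = (1 : (⊥ : Subgroup Γ)) • q
    rw [one_smul]
  · have hsub := h2 hr
    rw [act_inv]
    have hmem : (List.map (gl3 ga gt gb) wd).prod ∈ Subgroup.closure {ga, gt} := by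
      simp only [P2.subL, List.mem_cons, List.not_mem_nil, or_false] at hsub
      rcases hsub with rfl | rfl
      · simp only [List.map_cons, List.map_nil, List.prod_cons, List.prod_nil, mul_one, gl3]
        exact Subgroup.subset_closure (by simp)
      · simp only [List.map_cons, List.map_nil, List.prod_cons, List.prod_nil, mul_one, gl3]
        exact Subgroup.subset_closure (by simp)
    rw [MulAction.Quotient.smul_mk, QuotientGroup.eq]
    simpa using hmem

/-- **Main theorem of the second certificate of stage 1.** -/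
theorem mono_mainP2 (S : SettingP2 ga gt gb) :
    Finite (Γ ⧸ Subgroup.closure {ga, gt}) ∧
      Nat.card (Γ ⧸ Subgroup.closure {ga, gt}) ≤ 248832 := by
  let _ := commGroupOfCentral (⊥ : Subgroup Γ) bot_le
  have := smulComm_of_central (⊥ : Subgroup Γ) (Subgroup.closure {ga, gt}) bot_le
  set Q := Γ ⧸ Subgroup.closure {ga, gt} with hQ
  set q0 : Q := ((1 : Γ) : Q) with hq0
  set tw : List ℕ → (⊥ : Subgroup Γ) := ntw ([] : List (⊥ : Subgroup Γ)) with htw_def
  set γ : ℕ → Γ := fun x => (gl3 ga gt gb x)⁻¹ with hγ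
  have htw : TwOK (nadd P2.NN) (List.replicate 0 0) neq tw :=
    ntw_ok P2.NN _ (fun ζ hζ => absurd hζ (List.not_mem_nil)) 0
  have hfree : ∀ (α β : (⊥ : Subgroup Γ)) (q : Q), α • q = β • q → α = β := by
    intro α β q _
    apply Subtype.ext
    rw [Subgroup.mem_bot.mp α.2, Subgroup.mem_bot.mp β.2]
  have hw := wordsOKP2 S
  have hI := P2.run tw γ hfree htw q0 hw
  obtain ⟨c, hc0, hwords, hcov⟩ := covered P2.F P2.Ev 6 2097152 tw γ q0 P2.words 1492992 248832 231
    hI P2.rows P2.rows_ok P2.rows_length (gens_topP2 S) letters_inv3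
  let f : Fin 248832 → Q := fun p => c p
  have hf : Function.Surjective f := by
    intro q
    obtain ⟨i, hi, α, hα, rfl⟩ := hcov q
    refine ⟨⟨i, hi⟩, ?_⟩
    have : α = 1 := Subtype.ext (Subgroup.mem_bot.mp α.2)
    rw [this, one_smul]
  refine ⟨Finite.of_surjective f hf, ?_⟩
  have := Nat.card_le_card_of_surjective f hf
  rwa [Nat.card_fin] at this

end

end Cfsg.Agent.Lib.H16.U62M
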