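import Cfsg.Agent.Lib.H16.G24M.ModTw

set_option autoImplicit false

/-!
# A checked certificate that residue relations kill all the twist symbols (helper16)

`all_one_of_cert`: if the elements `ζs` have `N`-th powers `1`, satisfy the relations `ntw ζs r = 1` for the rows
`r` of `R`, and for every `i < k` the combination of the rows of `R` with the coefficients `C[i]` is the `i`-th
unit vector modulo `N` (checked by `certOK`), then all `ζs` are `1`.
-/

namespace Cfsg.Agent.Lib.H16.U62M

open Cfsg.Agent.Lib.H16.G24M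

/-- the multiple `c • v` modulo `N` -/
def nsmulv (N c : ℕ) (v : List ℕ) : List ℕ := v.map fun x => (c * x) % N

theorem ntw_nsmulv {A : Type*} [CommGroup A] (N : ℕ) (ζs : List A) (hN : ∀ ζ ∈ ζs, ζ ^ N = 1)
    (c : ℕ) (v : List ℕ) : ntw ζs (nsmulv N c v) = (ntw ζs v) ^ c := by
  induction ζs generalizing v with
  | nil => simp [ntw]
  | cons ζ ζs ih =>
    cases v with
    | nil =>
      change ntw (ζ :: ζs) [] = _
      rw [ntw_nil_right, one_pow]
    | cons e t =>
      change ntw (ζ :: ζs) (((c * e) % N) :: nsmulv N c t) = _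
      rw [ntw_cons, ntw_cons, ih (fun z hz => hN z (List.mem_cons_of_mem _ hz)), mul_pow,
        ← pow_eq_pow_mod _ (hN ζ List.mem_cons_self), ← pow_mul, mul_comm c e]

/-- the combination `Σ c_j • r_j` modulo `N` -/
noncomputable def ncomb (N : ℕ) : List ℕ → List (List ℕ) → List ℕ
  | c :: cs, r :: rs => nadd N (nsmulv N c r) (ncomb N cs rs)
  | [], _ => []
  | _ :: _, [] => []

theorem ntw_ncomb {A : Type*} [CommGroup A] (N : ℕ) (ζs : List A) (hN : ∀ ζ ∈ ζs, ζ ^ N = 1)
    (cs : List ℕ) (rs : List (List ℕ)) (h : ∀ r ∈ rs, ntw ζs r = 1) :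
    ntw ζs (ncomb N cs rs) = 1 := by
  induction cs generalizing rs with
  | nil =>
    change ntw ζs [] = 1
    exact ntw_nil_right ζs
  | cons c cs ih =>
    cases rs with
    | nil =>
      change ntw ζs [] = 1
      exact ntw_nil_right ζs
    | cons r rs =>
      change ntw ζs (nadd N (nsmulv N c r) (ncomb N cs rs)) = 1
      rw [ntw_add N ζs hN, ntw_nsmulv N ζs hN, h r List.mem_cons_self, one_pow, one_mul,
        ih rs (fun r' hr' => h r' (List.mem_cons_of_mem _ hr'))]

/-- the `i`-th unit vector of length `k` -/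
def unitv : ℕ → ℕ → List ℕ
  | 0, _ => []
  | k + 1, 0 => 1 :: List.replicate k 0
  | k + 1, i + 1 => 0 :: unitv k i

theorem ntw_unitv {A : Type*} [CommGroup A] (ζs : List A) (i : ℕ) (hi : i < ζs.length) :
    ntw ζs (unitv ζs.length i) = ζs[i] := by
  induction ζs generalizing i with
  | nil => exact absurd hi (by simp)
  | cons ζ ζs ih =>
    cases i with
    | zero =>
      change ntw (ζ :: ζs) (1 :: List.replicate ζs.length 0) = ζ
      rw [ntw_cons, ntw_replicate_zero, pow_one, mul_one]
    | succ j =>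
      have hj : j < ζs.length := by simpa using hi
      change ntw (ζ :: ζs) (0 :: unitv ζs.length j) = ζs[j]
      rw [ntw_cons, pow_zero, one_mul]
      exact ih j hj

/-- the check of a certificate: row `i` of `C` combines the rows of `R` to the `i`-th unit vector -/
noncomputable def certOK (N k : ℕ) (C R : List (List ℕ)) : Bool :=
  (List.range k).all fun i => neq (ncomb N (C.getD i []) R) (unitv k i)

theorem all_one_of_cert {A : Type*} [CommGroup A] (N : ℕ) (ζs : List A) (hN : ∀ ζ ∈ ζs, ζ ^ N = 1)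
    (R : List (List ℕ)) (hR : ∀ r ∈ R, ntw ζs r = 1) (k : ℕ) (hk : ζs.length = k)
    (C : List (List ℕ)) (hC : certOK N k C R = true) : ∀ ζ ∈ ζs, ζ = 1 := by
  intro ζ hζ
  obtain ⟨i, hi, rfl⟩ := List.getElem_of_mem hζ
  have h1 := List.all_eq_true.mp hC i (List.mem_range.mpr (hk ▸ hi))
  have h2 : ncomb N (C.getD i []) R = unitv k i := of_decide_eq_true h1
  have h3 := ntw_ncomb N ζs hN (C.getD i []) R hR
  rw [h2, ← hk, ntw_unitv ζs i hi] at h3
  exact h3

end Cfsg.Agent.Lib.H16.U62M
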