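import Cfsg.Agent.Lib.H16.U62M.Stem
import Cfsg.Agent.Lib.H16.U62M.Sigs

set_option autoImplicit false

/-!
# The Schur multiplier of a group with the `U6(2)` data (helper16)

`Base.main`: a group `G` with `Base am bm cm` and a finite stem extension with kernel `3 × 2 × 2` has Schur
multiplier `3 × 2 × 2`.  `p2Bound`: the second certificate of stage 1 in the form used by the lower bound.
-/

namespace Cfsg.Agent.Lib.H16.U62M

open Subgroup

/-- the second certificate of stage 1, as the hypothesis of the lower bound -/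
theorem p2Bound : P2Bound := fun _ _ _ _ _ S => mono_mainP2 S

/-- the Schur multiplier is `3 × 2 × 2` -/
theorem Base.main {G : Type} [Group G] {am bm cm : G} (B : Base am bm cm) (hcov : CoverExists G) :
    Cfsg.HasSchurMultiplier G Cfsg.Agent.Lib.H24.U62Hom.T322 := by
  refine ⟨hcov, ?_⟩
  intro Γ _ _ σ hσ
  obtain ⟨X, W, hX, hW, hker, hcen⟩ := B.stem σ hσ
  have hXk : X ∈ σ.ker := by
    rw [hker]
    exact subset_closure (by simp)
  have hcomm : Commute X W := (mem_center_iff.mp (hcen hXk) W).symm
  obtain ⟨f, hf, -⟩ := Cfsg.Agent.Lib.H24.U62Hom.exists_hom_T322 X W hcomm hX hW σ.ker hker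
  exact ⟨f, hf⟩

end Cfsg.Agent.Lib.H16.U62M
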