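import Mathlib

set_option autoImplicit false

/-!
# Groups generated by `a`, `t` with `a ^ 11 = t ^ 5 = 1`, `t a t⁻¹ = a ^ 3` (helper16)

Every element is `a ^ i * t ^ j` with `i < 11`, `j < 5`; a homomorphism which maps `a` and `t` to elements
of orders 11 and 5 is injective on the subgroup.
-/

namespace Cfsg.Agent.Lib.H16.U62M

section

variable {K : Type*} [Group K] {a t : K}

theorem conj_pow_55 (hc : t * a * t⁻¹ = a ^ 3) (k : ℕ) : t * a ^ k * t⁻¹ = (a ^ 3) ^ k := by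
  induction k with
  | zero => simp
  | succ k ih =>
    rw [pow_succ, pow_succ, ← ih, ← hc]
    group

theorem pow_mul_55 (hc : t * a * t⁻¹ = a ^ 3) (j : ℕ) : t ^ j * a = a ^ (3 ^ j) * t ^ j := by
  induction j with
  | zero => simp
  | succ j ih =>
    have h1 : t * a ^ (3 ^ j) * t⁻¹ = (a ^ 3) ^ (3 ^ j) := conj_pow_55 hc _
    calc t ^ (j + 1) * a = t * (t ^ j * a) := by rw [pow_succ']; group
      _ = t * (a ^ (3 ^ j) * t ^ j) := by rw [ih]
      _ = (t * a ^ (3 ^ j) * t⁻¹) * (t * t ^ j) := by group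
      _ = (a ^ 3) ^ (3 ^ j) * t ^ (j + 1) := by rw [h1, ← pow_succ']
      _ = a ^ (3 ^ (j + 1)) * t ^ (j + 1) := by rw [← pow_mul, ← pow_succ']

/-- the normal form -/
theorem mem_closure_nf55 (ha : a ^ 11 = 1) (ht : t ^ 5 = 1) (hc : t * a * t⁻¹ = a ^ 3) :
    ∀ x ∈ Subgroup.closure ({a, t} : Set K), ∃ i j : ℕ, i < 11 ∧ j < 5 ∧ x = a ^ i * t ^ j := by
  have key : ∀ x ∈ Subgroup.closure ({a, t} : Set K),
      ∀ i j : ℕ, ∃ i' j' : ℕ, a ^ i * t ^ j * x = a ^ i' * t ^ j' := by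
    have hA : ∀ i j : ℕ, ∃ i' j' : ℕ, a ^ i * t ^ j * a = a ^ i' * t ^ j' := by
      intro i j
      refine ⟨i + 3 ^ j, j, ?_⟩
      rw [mul_assoc, pow_mul_55 hc j, ← mul_assoc, ← pow_add]
    have hT : ∀ i j : ℕ, ∃ i' j' : ℕ, a ^ i * t ^ j * t = a ^ i' * t ^ j' := by
      intro i j
      exact ⟨i, j + 1, by rw [mul_assoc, ← pow_succ]⟩
    have hpow : ∀ (g : K), (∀ i j : ℕ, ∃ i' j' : ℕ, a ^ i * t ^ j * g = a ^ i' * t ^ j') →
        ∀ n : ℕ, ∀ i j : ℕ, ∃ i' j' : ℕ, a ^ i * t ^ j * g ^ n = a ^ i' * t ^ j' := by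
      intro g hg n
      induction n with
      | zero => intro i j; exact ⟨i, j, by simp⟩
      | succ n ih =>
        intro i j
        obtain ⟨i1, j1, h1⟩ := ih i j
        obtain ⟨i2, j2, h2⟩ := hg i1 j1
        exact ⟨i2, j2, by rw [pow_succ, ← mul_assoc, h1, h2]⟩
    have hainv : a⁻¹ = a ^ 10 := by
      rw [inv_eq_iff_mul_eq_one, ← pow_succ']
      exact ha
    have htinv : t⁻¹ = t ^ 4 := by
      rw [inv_eq_iff_mul_eq_one, ← pow_succ']
      exact ht
    intro x hx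
    induction hx using Subgroup.closure_induction'' with
    | mem g hg =>
      simp only [Set.mem_insert_iff, Set.mem_singleton_iff] at hg
      rcases hg with rfl | rfl
      · exact hA
      · exact hT
    | inv_mem g hg =>
      simp only [Set.mem_insert_iff, Set.mem_singleton_iff] at hg
      rcases hg with rfl | rfl
      · rw [hainv]; exact hpow _ hA 10
      · rw [htinv]; exact hpow _ hT 4
    | one => intro i j; exact ⟨i, j, by simp⟩
    | mul g1 g2 _ _ ih1 ih2 =>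
      intro i j
      obtain ⟨i1, j1, h1⟩ := ih1 i j
      obtain ⟨i2, j2, h2⟩ := ih2 i1 j1
      exact ⟨i2, j2, by rw [← mul_assoc, h1, h2]⟩
  intro x hx
  obtain ⟨i, j, h⟩ := key x hx 0 0
  rw [pow_zero, pow_zero, one_mul, one_mul] at h
  refine ⟨i % 11, j % 5, Nat.mod_lt _ (by norm_num), Nat.mod_lt _ (by norm_num), ?_⟩
  rw [h, ← pow_mod_orderOf a i, ← pow_mod_orderOf t j]
  have h11 : orderOf a ∣ 11 := orderOf_dvd_of_pow_eq_one ha
  have h5 : orderOf t ∣ 5 := orderOf_dvd_of_pow_eq_one ht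
  rw [← pow_mod_orderOf a (i % 11), ← pow_mod_orderOf t (j % 5), Nat.mod_mod_of_dvd i h11,
    Nat.mod_mod_of_dvd j h5]

/-- the subgroup has at most 55 elements -/
theorem card_closure_le_55 (ha : a ^ 11 = 1) (ht : t ^ 5 = 1) (hc : t * a * t⁻¹ = a ^ 3) :
    Finite ↥(Subgroup.closure ({a, t} : Set K)) ∧
      Nat.card ↥(Subgroup.closure ({a, t} : Set K)) ≤ 55 := by
  let f : Fin 11 × Fin 5 → K := fun p => a ^ (p.1 : ℕ) * t ^ (p.2 : ℕ)
  have hsub : ((Subgroup.closure ({a, t} : Set K) : Subgroup K) : Set K) ⊆ Set.range f := by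
    intro x hx
    obtain ⟨i, j, hi, hj, rfl⟩ := mem_closure_nf55 ha ht hc x hx
    exact ⟨(⟨i, hi⟩, ⟨j, hj⟩), rfl⟩
  have hfin : (Set.range f).Finite := Set.finite_range f
  have hfin2 : ((Subgroup.closure ({a, t} : Set K) : Subgroup K) : Set K).Finite := hfin.subset hsub
  refine ⟨hfin2.to_subtype, ?_⟩
  have h1 : Nat.card ↥(Subgroup.closure ({a, t} : Set K)) ≤ Nat.card (Set.range f) :=
    Nat.card_mono hfin hsub
  have h2 : Nat.card (Set.range f) ≤ Nat.card (Fin 11 × Fin 5) :=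
    Nat.card_le_card_of_surjective (Set.rangeFactorization f) Set.rangeFactorization_surjective
  rw [Nat.card_prod, Nat.card_fin, Nat.card_fin] at h2
  exact le_trans h1 h2

/-- a homomorphism mapping `a`, `t` to elements of orders 11 and 5 is injective on `⟨a, t⟩` -/
theorem inj_on_closure_55 {G : Type*} [Group G] (σ : K →* G) (ha : a ^ 11 = 1) (ht : t ^ 5 = 1)
    (hc : t * a * t⁻¹ = a ^ 3) (hσa : σ a ≠ 1) (hσt : σ t ≠ 1) :
    ∀ x ∈ Subgroup.closure ({a, t} : Set K), σ x = 1 → x = 1 := by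
  intro x hx hx1
  obtain ⟨i, j, hi, hj, rfl⟩ := mem_closure_nf55 ha ht hc x hx
  rw [map_mul, map_pow, map_pow] at hx1
  have e1 : σ a ^ i = (σ t ^ j)⁻¹ := eq_inv_of_mul_eq_one_left hx1
  have oa : orderOf (σ a) = 11 := by
    have h := orderOf_dvd_of_pow_eq_one (show σ a ^ 11 = 1 by rw [← map_pow, ha, map_one])
    rcases (Nat.dvd_prime (by norm_num : Nat.Prime 11)).1 h with h | h
    · exact absurd (orderOf_eq_one_iff.1 h) hσa
    · exact h
  have ot : orderOf (σ t) = 5 := by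
    have h := orderOf_dvd_of_pow_eq_one (show σ t ^ 5 = 1 by rw [← map_pow, ht, map_one])
    rcases (Nat.dvd_prime (by norm_num : Nat.Prime 5)).1 h with h | h
    · exact absurd (orderOf_eq_one_iff.1 h) hσt
    · exact h
  have g11 : (σ a ^ i) ^ 11 = 1 := by
    rw [← pow_mul, mul_comm, pow_mul, ← map_pow, ha, map_one, one_pow]
  have g5 : (σ a ^ i) ^ 5 = 1 := by
    rw [e1, inv_pow, ← pow_mul, mul_comm, pow_mul, ← map_pow σ t 5, ht, map_one, one_pow, inv_one]
  have g1 : σ a ^ i = 1 := by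
    have d1 := orderOf_dvd_of_pow_eq_one g11
    have d2 := orderOf_dvd_of_pow_eq_one g5
    have := Nat.dvd_gcd d1 d2
    rw [show Nat.gcd 11 5 = 1 from rfl, Nat.dvd_one] at this
    exact orderOf_eq_one_iff.1 this
  have hi0 : i = 0 := by
    have := orderOf_dvd_of_pow_eq_one g1
    rw [oa] at this
    exact Nat.eq_zero_of_dvd_of_lt this hi
  have g2 : σ t ^ j = 1 := by
    rw [g1] at e1
    exact inv_eq_one.mp e1.symm
  have hj0 : j = 0 := by
    have := orderOf_dvd_of_pow_eq_one g2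
    rw [ot] at this
    exact Nat.eq_zero_of_dvd_of_lt this hj
  rw [hi0, hj0, pow_zero, pow_zero, one_mul]

end

end Cfsg.Agent.Lib.H16.U62M
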