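import Cfsg.Agent.Lib.H16.U62M.StemC
import Cfsg.Agent.Lib.H16.U62M.GlueP1
import Cfsg.Agent.Lib.H16.U62M.GlueP2

set_option autoImplicit false
set_option maxRecDepth 100000

/-!
# Finite stem extensions of a group with the `U6(2)` data (helper16)

The kernel of every finite stem extension of a group `G` with `Base am bm cm` is generated by an element
`X` with `X ^ 6 = 1` and an element `W` with `W ^ 2 = 1`.
-/

namespace Cfsg.Agent.Lib.H16.U62M

open Subgroup
open Cfsg.Agent.Lib.H12.J3M (gl2 wv2 gl3 wv3 map_wv3 wv2_mem wv3_eq_wv2 eq_one_of_pow_coprime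
  pow_gcd_eq_one')

section stem

variable {G : Type*} [Group G] {am bm cm : G}

/-- Stage 1 for a subgroup: elements `u s v` of orders dividing `11, 5, 11` of a group `E` with a
homomorphism `σ` to `G`, central on the kernel, mapping them to `am tm bm`, generate a subgroup of at most
`13685760` elements if the kernel has exponent dividing `23887872`. -/
theorem Base.card_lift_le (B : Base am bm cm) {E : Type*} [Group E] (σ : E →* G)
    (hc : σ.ker ≤ center E) (hN : ∀ z ∈ σ.ker, z ^ 23887872 = 1) (u s v : E) (hu : σ u = am)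
    (hs : σ s = wv3 am bm cm tW) (hv : σ v = bm) (hu11 : u ^ 11 = 1) (hs5 : s ^ 5 = 1)
    (hv11 : v ^ 11 = 1) :
    Finite ↥(closure ({u, s, v} : Set E)) ∧ Nat.card ↥(closure ({u, s, v} : Set E)) ≤ 13685760 := by
  set K0 : Subgroup E := closure {u, s, v} with hK0
  have huK : u ∈ K0 := subset_closure (by simp)
  have hsK : s ∈ K0 := subset_closure (by simp)
  have hvK : v ∈ K0 := subset_closure (by simp)
  let τ : ↥K0 →* G := σ.comp K0.subtype
  let ga1 : ↥K0 := ⟨u, huK⟩
  let gt1 : ↥K0 := ⟨s, hsK⟩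
  let gb1 : ↥K0 := ⟨v, hvK⟩
  have hτa : τ ga1 = am := hu
  have hτt : τ gt1 = wv3 am bm cm tW := hs
  have hτb : τ gb1 = bm := hv
  have hga11 : ga1 ^ 11 = 1 := Subtype.ext (by rw [Subgroup.coe_pow]; exact hu11)
  have hgt5 : gt1 ^ 5 = 1 := Subtype.ext (by rw [Subgroup.coe_pow]; exact hs5)
  have hgb11 : gb1 ^ 11 = 1 := Subtype.ext (by rw [Subgroup.coe_pow]; exact hv11)
  -- the conjugation relation is exact
  have hconjE : s * u * s⁻¹ = u ^ 3 := by
    set z : E := s * u * s⁻¹ * (u ^ 3)⁻¹ with hz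
    have hzk : z ∈ σ.ker := by
      rw [MonoidHom.mem_ker, hz, map_mul, map_mul, map_mul, map_inv, map_inv, map_pow, hu, hs, B.conj]
      exact mul_inv_cancel _
    have hzc := mem_center_iff.mp (hc hzk)
    have e1 : s * u * s⁻¹ = z * u ^ 3 := by rw [hz]; group
    have e2 : (s * u * s⁻¹) ^ 11 = 1 := by
      rw [conj_pow, hu11]; group
    have e3 : (z * u ^ 3) ^ 11 = z ^ 11 := by
      rw [(Commute.mul_pow (show Commute z (u ^ 3) from (hzc (u ^ 3)).symm) 11), ← pow_mul,
        show 3 * 11 = 11 * 3 from rfl, pow_mul, hu11, one_pow, mul_one]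
    have e4 : z ^ 11 = 1 := by rw [← e3, ← e1, e2]
    have e5 : z = 1 := eq_one_of_pow_coprime z 11 23887872 e4 (hN z hzk) (by norm_num)
    rw [e1, e5, one_mul]
  have hconj : gt1 * ga1 * gt1⁻¹ = ga1 ^ 3 := Subtype.ext hconjE
  have hkerc : ∀ x : ↥K0, τ x = 1 → x ∈ center ↥K0 := by
    intro x hx
    have hx' : (x : E) ∈ σ.ker := hx
    rw [mem_center_iff]
    intro y
    apply Subtype.ext
    exact mem_center_iff.mp (hc hx') y
  have S1 : SettingP1 ga1 gt1 gb1 (τ.ker ⊓ center ↥K0) :=
    { central := inf_le_right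
      disj := fun x hx hxA =>
        inj_on_closure_55 τ hga11 hgt5 hconj (by rw [hτa]; exact B.a_ne) (by rw [hτt]; exact B.t_ne)
          x hx (MonoidHom.mem_ker.mp hxA.1)
      exact := by
        intro w hw
        simp only [P1.exactL, List.mem_cons, List.not_mem_nil, or_false] at hw
        rcases hw with rfl | rfl | rfl | rfl
        · exact (wv3_replicate0 ga1 gt1 gb1 11).trans hga11
        · exact (wv3_replicate2 ga1 gt1 gb1 5).trans hgt5
        · exact (conjW_iff ga1 gt1 gb1).mpr hconj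
        · exact (wv3_replicate4 ga1 gt1 gb1 11).trans hgb11
      rel := by
        intro w hw
        have h1 : τ (wv3 ga1 gt1 gb1 w) = 1 := by
          rw [map_wv3, hτa, hτt, hτb]
          exact B.rel1 w (List.mem_append_right _ hw)
        exact ⟨MonoidHom.mem_ker.mpr h1, hkerc _ h1⟩
      tors := by
        intro w hw
        apply Subtype.ext
        rw [Subgroup.coe_pow]
        apply hN
        change τ (wv3 ga1 gt1 gb1 w) = 1
        rw [map_wv3, hτa, hτt, hτb]
        exact B.rel1 w (List.mem_append_right _ (List.mem_append_left _ hw)) }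
  have hall := mono_mainP1 S1
  have S2 : SettingP2 ga1 gt1 gb1 :=
    { exact := by
        intro w hw
        rcases List.mem_append.mp (p2_sub w hw) with h | h
        · exact S1.exact w h
        · exact hall w h
      gen := by
        have h := Subgroup.closure_closure_coe_preimage (k := ({u, s, v} : Set E))
        convert h using 2
        ext x
        simp only [Set.mem_insert_iff, Set.mem_singleton_iff, Set.mem_preimage]
        constructor
        · rintro (rfl | rfl | rfl)
          · left; rfl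
          · right; left; rfl
          · right; right; rfl
        · rintro (h | h | h)
          · left; exact Subtype.ext h
          · right; left; exact Subtype.ext h
          · right; right; exact Subtype.ext h }
  obtain ⟨hfinQ1, hq1⟩ := mono_mainP2 S2
  obtain ⟨hfinH, h2⟩ := card_closure_le_55 hga11 hgt5 hconj
  have h1 := Subgroup.card_eq_card_quotient_mul_card_subgroup (closure ({ga1, gt1} : Set ↥K0))
  have hfinK : Finite ↥K0 :=
    Finite.of_equiv _
      (Subgroup.groupEquivQuotientProdSubgroup (s := closure ({ga1, gt1} : Set ↥K0))).symm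
  refine ⟨hfinK, ?_⟩
  calc Nat.card ↥K0 = _ := h1
    _ ≤ 248832 * 55 := Nat.mul_le_mul hq1 h2
    _ = 13685760 := by norm_num

/-- the kernel of a finite stem extension is generated by `X`, `W` with `X ^ 6 = W ^ 2 = 1` -/
theorem Base.stem (B : Base am bm cm) {Γ : Type*} [Group Γ] [Finite Γ] (σ : Γ →* G)
    (hσ : Cfsg.IsStemExtension σ) :
    ∃ X W : Γ, X ^ 6 = 1 ∧ W ^ 2 = 1 ∧ σ.ker = closure {X, W} ∧ σ.ker ≤ center Γ := by
  have hN := B.ker_pow σ hσ
  obtain ⟨hs, hc, hd⟩ := hσ
  obtain ⟨a, ha, ha11⟩ := Cfsg.Agent.Lib.H17.M22M.exists_lift_pow σ hs hN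
    (by norm_num : Nat.Coprime 11 23887872) B.a11
  obtain ⟨b, hb, hb11⟩ := Cfsg.Agent.Lib.H17.M22M.exists_lift_pow σ hs hN
    (by norm_num : Nat.Coprime 11 23887872) B.b11
  obtain ⟨c, hc', hc11⟩ := Cfsg.Agent.Lib.H17.M22M.exists_lift_pow σ hs hN
    (by norm_num : Nat.Coprime 11 23887872) B.c11
  obtain ⟨s, hs', hs5⟩ := Cfsg.Agent.Lib.H17.M22M.exists_lift_pow σ hs hN
    (by norm_num : Nat.Coprime 5 23887872) B.t5
  obtain ⟨hfinK0, hcardK0⟩ := B.card_lift_le σ hc hN a s b ha hs' hb ha11 hs5 hb11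
  have hinj0 := B.inj_of_card_le σ a s b ha hs' hb hcardK0
  have hsub : closure ({a, b} : Set Γ) ≤ closure ({a, s, b} : Set Γ) := by
    apply Subgroup.closure_mono
    intro x hx
    simp only [Set.mem_insert_iff, Set.mem_singleton_iff] at hx ⊢
    rcases hx with rfl | rfl
    · left; rfl
    · right; right; rfl
  have hinj : ∀ x ∈ closure ({a, b} : Set Γ), σ x = 1 → x = 1 := fun x hx => hinj0 x (hsub hx)
  have S2' : SettingC2 a b c σ.ker := B.stage2 σ hc a b c ha hb hc' hc11 hinj
    (Cfsg.Agent.Lib.H17.M22M.closure_lift_eq_top σ hc hd {a, b, c} (by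
      rw [Set.image_insert_eq, Set.image_insert_eq, Set.image_singleton, ha, hb, hc']
      exact B.gen))
    (by
      intro w hw
      apply hN
      rw [MonoidHom.mem_ker, map_wv3, ha, hb, hc']
      exact B.rel2 w (List.mem_append_right _ (List.mem_append_left _ hw)))
  have hmain := mono_mainC2 S2'
  set X : Γ := (wv3 a b c x0W)⁻¹ * (wv3 a b c x8W)⁻¹ with hX
  set W : Γ := (wv3 a b c w10W)⁻¹ with hW
  set Z : Subgroup Γ := closure ({X, W} : Set Γ) with hZ
  obtain ⟨hXk, hWk, hX6, hW2, f, hf⟩ := hmain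
  refine ⟨X, W, hX6, hW2, ?_, hc⟩
  have hZle : Z ≤ σ.ker := by
    rw [hZ, closure_le]
    intro x hx
    simp only [Set.mem_insert_iff, Set.mem_singleton_iff] at hx
    rcases hx with rfl | rfl
    · exact hXk
    · exact hWk
  -- counting
  have hq : Nat.card (Γ ⧸ closure ({a, b} : Set Γ)) ≤ 672 * Nat.card Z := by
    have := Nat.card_le_card_of_surjective f hf
    rwa [Nat.card_prod, Nat.card_fin] at this
  have hcardH : Nat.card (closure ({a, b} : Set Γ)) ≤ 13685760 :=
    le_trans (Subgroup.card_le_of_le hsub) hcardK0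
  have h1 : Nat.card Γ = Nat.card (Γ ⧸ closure ({a, b} : Set Γ)) * Nat.card (closure ({a, b} : Set Γ)) :=
    Subgroup.card_eq_card_quotient_mul_card_subgroup _
  have h2 : Nat.card Γ = Nat.card σ.ker * Nat.card G :=
    Cfsg.Agent.Lib.H28.StemTools.card_eq_card_ker_mul σ hs
  have h3 : Nat.card σ.ker * 9196830720 ≤ Nat.card Z * 9196830720 := by
    calc Nat.card σ.ker * 9196830720 = Nat.card Γ := by rw [h2, B.card]
      _ = _ := h1
      _ ≤ (672 * Nat.card Z) * 13685760 := Nat.mul_le_mul hq hcardH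
      _ = Nat.card Z * 9196830720 := by ring
  have h4 : Nat.card σ.ker ≤ Nat.card Z := Nat.le_of_mul_le_mul_right h3 (by norm_num)
  symm
  exact Subgroup.eq_of_le_of_card_ge hZle h4

end stem

end Cfsg.Agent.Lib.H16.U62M
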