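import Cfsg.Agent.Lib.H16.U62M.Base
import Cfsg.Agent.Lib.H16.U62M.Glue2
import Cfsg.Agent.Lib.H16.U62M.NF55
import Cfsg.Agent.Lib.H17.M22M.AbsTools
import Cfsg.Agent.Lib.H17.M22M.StemGen
import Cfsg.Agent.Lib.H28.StemTools2

set_option autoImplicit false
set_option maxRecDepth 100000

/-!
# Consequences of the `U6(2)` data which do not use the stage 1 certificates (helper16)

Orders of the generators, the exponent of the kernel of a finite stem extension, the order of `⟨am, bm⟩`
(from the stage 2 certificate applied to `G` itself), injectivity on lifts of `⟨am, tm, bm⟩`, and the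
stage 2 setting for a central extension.
-/

namespace Cfsg.Agent.Lib.H16.U62M

open Subgroup
open Cfsg.Agent.Lib.H12.J3M (gl2 wv2 gl3 wv3 map_wv3 wv2_mem wv3_eq_wv2 eq_one_of_pow_coprime
  pow_gcd_eq_one')

theorem exactC2_cases : ∀ w ∈ C2.exactL, (∀ x ∈ w, x < 4) ∨ w = List.replicate 11 4 := by
  decide +kernel

section

variable {G : Type*} [Group G] {am bm cm : G}

theorem Base.finite (B : Base am bm cm) : Finite G :=
  Nat.finite_of_card_ne_zero (by rw [B.card]; norm_num)

theorem Base.a11 (B : Base am bm cm) : am ^ 11 = 1 := by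
  have h := B.rel1 (List.replicate 11 0) (by decide)
  rwa [wv3_replicate0] at h

theorem Base.b11 (B : Base am bm cm) : bm ^ 11 = 1 := by
  have h := B.rel1 (List.replicate 11 4) (by decide)
  rwa [wv3_replicate4] at h

theorem Base.t5 (B : Base am bm cm) : (wv3 am bm cm tW) ^ 5 = 1 := by
  have h := B.rel1 (List.replicate 5 2) (by decide)
  rwa [wv3_replicate2] at h

theorem Base.c11 (B : Base am bm cm) : cm ^ 11 = 1 := by
  have h := B.rel2 (List.replicate 11 4) (by decide)
  rwa [wv3_replicate4] at h

theorem conjW_iff {K : Type*} [Group K] (x y z : K) :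
    wv3 x y z [2, 0, 3, 1, 1, 1] = 1 ↔ y * x * y⁻¹ = x ^ 3 := by
  have e : wv3 x y z [2, 0, 3, 1, 1, 1] = (y * x * y⁻¹) * (x ^ 3)⁻¹ := by
    simp only [wv3, gl3, List.map_cons, List.map_nil, List.prod_cons, List.prod_nil, mul_one]
    group
  rw [e, mul_inv_eq_one]

theorem Base.conj (B : Base am bm cm) :
    wv3 am bm cm tW * am * (wv3 am bm cm tW)⁻¹ = am ^ 3 :=
  (conjW_iff _ _ _).mp (B.rel1 [2, 0, 3, 1, 1, 1] (by decide))

theorem orderOf_eq_of_prime3 {K : Type*} [Group K] {g : K} {p : ℕ} (hp : p.Prime) (h1 : g ^ p = 1)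
    (h2 : g ≠ 1) : orderOf g = p := by
  have := orderOf_dvd_of_pow_eq_one h1
  rcases (Nat.dvd_prime hp).1 this with h | h
  · exact absurd (orderOf_eq_one_iff.1 h) h2
  · exact h

theorem Base.index_zpowers (B : Base am bm cm) {g : G} {p : ℕ} (hg : orderOf g = p) :
    (zpowers g).index * p = 9196830720 := by
  have := Subgroup.index_mul_card (zpowers g)
  rw [Nat.card_zpowers, hg, B.card] at this
  exact this

/-- the kernel of a finite stem extension has exponent dividing `23887872 = 2^15 * 3^6` -/
theorem Base.ker_pow (B : Base am bm cm) {Γ : Type*} [Group Γ] [Finite Γ] (σ : Γ →* G)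
    (hσ : Cfsg.IsStemExtension σ) : ∀ z ∈ σ.ker, z ^ 23887872 = 1 := by
  intro z hz
  have h1 : z ^ 9196830720 = 1 := by
    rw [← B.card]; exact Cfsg.Agent.Lib.H17.M22M.pow_card_eq_one σ hσ hz
  set w := z ^ 23887872 with hw
  have hwk : w ∈ σ.ker := pow_mem hz _
  have hw385 : w ^ 385 = 1 := by rw [hw, ← pow_mul]; exact h1
  have i11 : (zpowers am).index = 836075520 := by
    have := B.index_zpowers (orderOf_eq_of_prime3 (by norm_num : Nat.Prime 11) B.a11 B.a_ne)
    omega
  have i7 : (zpowers (wv3 am bm cm dW)).index = 1313832960 := by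
    have := B.index_zpowers (orderOf_eq_of_prime3 (by norm_num : Nat.Prime 7) B.d7 B.d_ne)
    omega
  have i5 : (zpowers (wv3 am bm cm tW)).index = 1839366144 := by
    have := B.index_zpowers (orderOf_eq_of_prime3 (by norm_num : Nat.Prime 5) B.t5 B.t_ne)
    omega
  have h35 : w ^ 35 = 1 :=
    Cfsg.Agent.Lib.H28.StemTools.eq_one_of_cyclic σ hσ am (pow_mem hwk 35) (n := 11)
      (by rw [← pow_mul]; exact hw385) (by rw [i11]; norm_num)
  have h55 : w ^ 55 = 1 :=
    Cfsg.Agent.Lib.H28.StemTools.eq_one_of_cyclic σ hσ (wv3 am bm cm dW) (pow_mem hwk 55) (n := 7)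
      (by rw [← pow_mul]; exact hw385) (by rw [i7]; norm_num)
  have h77 : w ^ 77 = 1 :=
    Cfsg.Agent.Lib.H28.StemTools.eq_one_of_cyclic σ hσ (wv3 am bm cm tW) (pow_mem hwk 77) (n := 5)
      (by rw [← pow_mul]; exact hw385) (by rw [i5]; norm_num)
  have h5 : w ^ 5 = 1 := pow_gcd_eq_one' w 35 55 h35 h55
  exact eq_one_of_pow_coprime w 5 77 h5 h77 (by norm_num)

end

section stem

variable {G : Type*} [Group G] {am bm cm : G}

theorem closure_one_one {K : Type*} [Group K] : closure ({1, 1} : Set K) = ⊥ := by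
  rw [Set.pair_eq_singleton, closure_singleton_one]

/-- the subgroup generated by `am bm` has at least `13685760` elements -/
theorem Base.card_U (B : Base am bm cm) : 13685760 ≤ Nat.card (closure ({am, bm} : Set G)) := by
  have hfin := B.finite
  have S : SettingC2 am bm cm (⊥ : Subgroup G) :=
    { central := bot_le
      disj := fun x _ hx => Subgroup.mem_bot.mp hx
      exact := fun w hw => B.rel2 w (List.mem_append_left _ hw)
      rel := fun w hw => by rw [B.rel2 w (List.mem_append_right _ hw)]; exact one_mem _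
      gen := B.gen
      tors := fun w hw => by
        rw [B.rel2 w (List.mem_append_right _ (List.mem_append_left _ hw)), one_pow] }
  obtain ⟨-, -, -, -, f, hf⟩ := mono_mainC2 S
  have e0 : wv3 am bm cm x0W = 1 := B.rel2 x0W (by decide)
  have e8 : wv3 am bm cm x8W = 1 := B.rel2 x8W (by decide)
  have e10 : wv3 am bm cm w10W = 1 := B.rel2 w10W (by decide)
  have hX : (wv3 am bm cm x0W)⁻¹ * (wv3 am bm cm x8W)⁻¹ = 1 := by rw [e0, e8]; simp
  have hW : (wv3 am bm cm w10W)⁻¹ = 1 := by rw [e10]; simp
  have hZ : closure ({(wv3 am bm cm x0W)⁻¹ * (wv3 am bm cm x8W)⁻¹, (wv3 am bm cm w10W)⁻¹} : Set G)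
      = ⊥ := by rw [hX, hW, closure_one_one]
  have hcardZ : Nat.card ↥(closure ({(wv3 am bm cm x0W)⁻¹ * (wv3 am bm cm x8W)⁻¹,
      (wv3 am bm cm w10W)⁻¹} : Set G)) = 1 := by rw [hZ]; exact Subgroup.card_bot
  have hq : Nat.card (G ⧸ closure ({am, bm} : Set G)) ≤ 672 := by
    have := Nat.card_le_card_of_surjective f hf
    rwa [Nat.card_prod, Nat.card_fin, hcardZ, mul_one] at this
  have h1 := Subgroup.card_eq_card_quotient_mul_card_subgroup (closure ({am, bm} : Set G))
  rw [B.card] at h1
  by_contra hlt
  push Not at hlt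
  have : Nat.card (G ⧸ closure ({am, bm} : Set G)) * Nat.card (closure ({am, bm} : Set G)) ≤
      672 * 13685759 := Nat.mul_le_mul hq (by omega)
  omega

/-- a homomorphism mapping `u s v` to `am tm bm` is injective on `⟨u, s, v⟩` if that has at most
`13685760` elements -/
theorem Base.inj_of_card_le (B : Base am bm cm) {E : Type*} [Group E] (σ : E →* G) (u s v : E)
    (hu : σ u = am) (hs : σ s = wv3 am bm cm tW) (hv : σ v = bm)
    [Finite ↥(closure ({u, s, v} : Set E))]
    (hcard : Nat.card ↥(closure ({u, s, v} : Set E)) ≤ 13685760) :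
    ∀ x ∈ closure ({u, s, v} : Set E), σ x = 1 → x = 1 := by
  set K0 : Subgroup E := closure {u, s, v} with hK0
  let τ : ↥K0 →* G := σ.comp K0.subtype
  have hmap : K0.map σ = closure ({am, wv3 am bm cm tW, bm} : Set G) := by
    rw [hK0, MonoidHom.map_closure, Set.image_insert_eq, Set.image_insert_eq, Set.image_singleton,
      hu, hs, hv]
  have hfinG := B.finite
  have hsurj : Function.Surjective τ.rangeRestrict := MonoidHom.rangeRestrict_surjective _
  have hrange : τ.range = closure ({am, wv3 am bm cm tW, bm} : Set G) := by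
    rw [MonoidHom.range_eq_map, ← Subgroup.map_map, ← MonoidHom.range_eq_map, Subgroup.range_subtype,
      hmap]
  have hle : closure ({am, bm} : Set G) ≤ closure ({am, wv3 am bm cm tW, bm} : Set G) := by
    apply Subgroup.closure_mono
    intro x hx
    simp only [Set.mem_insert_iff, Set.mem_singleton_iff] at hx ⊢
    rcases hx with rfl | rfl
    · left; rfl
    · right; right; rfl
  have hcard' : Nat.card ↥K0 ≤ Nat.card τ.range := by
    rw [hrange]
    exact le_trans hcard (le_trans B.card_U (Subgroup.card_le_of_le hle))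
  have hbij := Function.Surjective.bijective_of_nat_card_le hsurj hcard'
  intro x hx hx1
  have h1 : τ.rangeRestrict ⟨x, hx⟩ = τ.rangeRestrict 1 := by
    apply Subtype.ext
    rw [map_one]
    exact hx1
  exact congrArg Subtype.val (hbij.1 h1)

/-- Stage 2: the kernel of a homomorphism onto `G`, central, of exponent dividing `23887872`, from a
group generated by lifts `a b c` of `am bm cm` of order dividing 11, such that `a b` lie in a subgroup
on which the homomorphism is injective, is covered by `672 * |⟨X, W⟩|` cosets. -/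
theorem Base.stage2 (B : Base am bm cm) {E : Type*} [Group E] (σ : E →* G)
    (hc : σ.ker ≤ center E) (a b c : E) (ha : σ a = am) (hb : σ b = bm) (hc' : σ c = cm)
    (hc11 : c ^ 11 = 1) (hinj : ∀ x ∈ closure ({a, b} : Set E), σ x = 1 → x = 1)
    (hgen : closure ({a, b, c} : Set E) = ⊤)
    (htors : ∀ w ∈ C2.symL, (wv3 a b c w) ^ 23887872 = 1) :
    SettingC2 a b c σ.ker :=
  { central := hc
    disj := fun x hx hxA => hinj x hx (MonoidHom.mem_ker.mp hxA)
    exact := by
      intro w hw
      have hval : σ (wv3 a b c w) = 1 := by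
        rw [map_wv3, ha, hb, hc']
        exact B.rel2 w (List.mem_append_left _ hw)
      rcases exactC2_cases w hw with h | rfl
      · apply hinj _ _ hval
        rw [wv3_eq_wv2 a b c w h]
        exact wv2_mem a b w
      · rw [wv3_replicate4]; exact hc11
    rel := by
      intro w hw
      rw [MonoidHom.mem_ker, map_wv3, ha, hb, hc']
      exact B.rel2 w (List.mem_append_right _ hw)
    gen := hgen
    tors := htors }

end stem

end Cfsg.Agent.Lib.H16.U62M
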